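import Groth.Agent.H17.GorCurve.Balanced
import Groth.Agent.H22Alg.DevLength

/-!
# Degrees on reducible subcurves: components, and inverses of ideals of points
-/

set_option autoImplicit false
set_option linter.style.haveILetI false
set_option linter.unusedSectionVars false
set_option backward.isDefEq.respectTransparency false
set_option synthInstance.maxHeartbeats 400000

universe u

open CategoryTheory CategoryTheory.Limits AlgebraicGeometry TopologicalSpace Opposite
open Groth.Agent.H29RR Groth.Agent.H06Mod Groth.Agent.H29CurveDual Groth.Agent.H29CurveDual.Subcurve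

namespace Groth.Agent.H23Gor

attribute [local instance 10000] H10Coh.hasSheafifyAb H10Coh.hasWeakSheafifyAb H10Coh.hasExtAb H10Coh.enoughInjAb

open Groth.Agent.H17.GorCurve (degW degJ degW_eq_deg idl_support bijective_stalk_proj)

variable {k : Type u} [Field k] {X : Scheme.{u}} [X.Over (Spec (CommRingCat.of k))]
  [IsProper (X ↘ Spec (CommRingCat.of k))]

theorem D_quotMod (L : X.Modules) (W : Closeds X) :
    H28Int.D k [L] (ClSub.quotMod (idl W)) = -degW k W L := by
  show Curv2.euler k X _ - Curv2.euler k X _ = _
  rw [H25Euler.euler_congr (H10Coh.Tw.commIso L (ClSub.quotMod (idl W)))]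
  simp only [degW, res]
  omega

/-- The degree on a subcurve is nonnegative if it is so on all its components. -/
theorem degW_nonneg (hdim : topologicalKrullDim X ≤ 1) {L : X.Modules} (hL : PicF.IsInvertible L) {W : Closeds X}
    (h : ∀ η ∈ W, ¬ IsClosed ({η} : Set X) → 0 ≤ degW k (⟨closure {η}, isClosed_closure⟩ : Closeds X) L) :
    0 ≤ degW k W L := by
  haveI := H28Int.isNoetherian k (X := X)
  let O := ClSub.quotMod (idl W)
  have hO : Coh.IsCoh O := LeadDev.isCoh_push_structure (idl W).subschemeι
  have hd : topologicalKrullDim (CohB1.support O) ≤ ((1 : ℕ) : WithBot ℕ∞) :=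
    (Topology.IsInducing.subtypeVal.topologicalKrullDim_le).trans hdim
  have hl : ∀ A ∈ [L], PicF.IsInvertible A := by simpa using hL
  have hsum := H22Alg.DevLength.eq_finsum (H28Int.isAddFn_D k [L] hl) (H28Int.D_eq_zero k [L] hl) hO hd
  suffices H28Int.D k [L] O ≤ 0 by
    rw [D_quotMod] at this
    omega
  rw [hsum]
  refine finsum_induction (fun z : ℤ => z ≤ 0) le_rfl (fun a b ha hb => by omega) fun ξ => ?_
  split
  · next hξ =>
    by_cases hs : ξ ∈ CohB1.support O
    · rw [mem_support_quot, Scheme.IdealSheafData.coe_support_vanishingIdeal] at hs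
      have hn : ¬ IsClosed ({ξ} : Set X) := fun hc => by
        have h0 : topologicalKrullDim ({ξ} : Set X) ≤ 0 := topologicalKrullDim_zero_of_discreteTopology _
        rw [hc.closure_eq] at hξ
        rw [hξ] at h0
        exact absurd h0 (by simp)
      have h1 : 0 ≤ degW k (⟨closure {ξ}, isClosed_closure⟩ : Closeds X) L := h ξ hs hn
      refine mul_nonpos_of_nonneg_of_nonpos (Int.natCast_nonneg _) ?_
      exact (D_quotMod L _).trans_le (neg_nonpos.2 h1)
    · simp [H22Alg.DevLength.len_eq_zero hs]
  · exact le_rfl

/-- The same for connected subcurves. -/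
theorem degJ_nonneg [IsReduced X] (hdim : topologicalKrullDim X ≤ 1) {L : X.Modules} (hL : PicF.IsInvertible L)
    (J : X.IdealSheafData) [IsReduced J.subscheme]
    (h : ∀ η : X, η ∈ J.support → ¬ IsClosed ({η} : Set X) →
      0 ≤ degJ k (idl (⟨closure {η}, isClosed_closure⟩ : Closeds X)) L) :
    0 ≤ degJ k J L := by
  haveI := H28Int.isNoetherian k (X := X)
  obtain ⟨W, rfl⟩ : ∃ W : Closeds X, J = idl W := ⟨_, idl_support J⟩
  refine (degW_nonneg hdim hL fun η hη hn => ?_).trans_eq (degW_eq_deg hL W)
  exact (h η (by rwa [← SetLike.mem_coe, Scheme.IdealSheafData.coe_support_vanishingIdeal]) hn).trans_eq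
    (degW_eq_deg hL _).symm

/-- The degree of the inverse of the ideal of finitely many points on a subcurve. -/
theorem degW_inverse [IsReduced X] (hdim : topologicalKrullDim X ≤ 1) (Z : X.IdealSheafData)
    (hZ : ∀ η : X, ¬ IsClosed ({η} : Set X) → η ∉ Z.support) {N : X.Modules} (hN : PicF.IsInvertible N)
    (e : CohB1.tensorMod N (ClSub.idealMod Z) ≅ Coh.structureModule X) {W : Closeds X} (hW : IsPure W) :
    degW k W N = (Module.finrank k (Coh.HH X (ClSub.quotMod (Z ⊔ idl W)) 0) : ℤ) := by
  haveI := H28Int.isNoetherian k (X := X)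
  have hO := H11Ample.isInvertible_structureModule (X := X)
  obtain ⟨e0⟩ := nonempty_sub_invertible_iso Z hN
  let a : Coh.structureModule X ≅ sub Z N := e.symm ≪≫ H10Coh.Tw.commIso _ _ ≪≫ e0
  haveI := epi_proj hN W
  haveI := epi_subMap Z (proj N W)
  let b := subMap Z (proj N W)
  let T := DerSch.stalkFunctor X
  have hT : ∀ {A B C : X.Modules} (f : A ⟶ B) (g : B ⟶ C) (η : X) (v : (T η).obj A),
      ((T η).map (f ≫ g)).hom v = ((T η).map g).hom (((T η).map f).hom v) := fun f g η v => by
    rw [Functor.map_comp, ModuleCat.hom_comp, LinearMap.comp_apply]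
  have hb : ∀ η : X, ¬ IsClosed ({η} : Set X) → η ∈ W → Function.Bijective ((T η).map b).hom := fun η hη hηW => by
    have h1 : Function.Bijective ((T η).map (subι Z N)).hom := bijective_stalk_subι Z N (hZ η hη)
    have h2 : Function.Bijective ((T η).map (subι Z (res N W))).hom := bijective_stalk_subι Z _ (hZ η hη)
    have h3 := bijective_stalk_proj hdim hN hη hηW
    have h4 : ((T η).map (subι Z (res N W))).hom ∘ ((T η).map b).hom =
        ((T η).map (proj N W)).hom ∘ ((T η).map (subι Z N)).hom := funext fun v => by
      rw [Function.comp_apply, Function.comp_apply, ← hT, ← hT, subMap_ι]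
    exact (Function.Bijective.of_comp_iff' h2 _).1 (h4 ▸ h3.comp h1)
  obtain ⟨s, hs⟩ := exists_desc (idl W) (a.hom ≫ b) (sub_kills Z hN W _)
  haveI := H10Coh.epi_toSubscheme (idl W)
  haveI : Epi s := epi_of_epi_fac hs
  have hmono : Mono s := by
    refine Preadditive.mono_of_kernel_zero ?_
    rw [← cancel_mono (H10Coh.Tw.rightUnitIso (ClSub.quotMod (idl W))).inv, zero_comp]
    refine hom_res_eq_zero hO hW _ fun η hmem hn => ?_
    have hts : Nontrivial ((ClSub.quotMod (idl W)).presheaf.stalk η) :=
      not_subsingleton_iff_nontrivial.1 ((mem_support_quot (idl W)).ge (by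
        rw [Scheme.IdealSheafData.coe_support_vanishingIdeal]; exact hmem))
    have h5 := bijective_stalk_of_epi hdim hO (ClSub.toSubscheme (idl W)) hn hts
    have h6 : Function.Bijective ((T η).map a.hom).hom :=
      (((T η).mapIso a).toLinearEquiv).bijective
    have h7 : ((T η).map s).hom ∘ ((T η).map (ClSub.toSubscheme (idl W))).hom =
        ((T η).map b).hom ∘ ((T η).map a.hom).hom := funext fun v => by
      rw [Function.comp_apply, Function.comp_apply, ← hT, ← hT, hs]
    have h8 := (Function.Bijective.of_comp_iff _ h5).1 (h7 ▸ (hb η hn hmem).comp h6)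
    refine LinearMap.ext fun v => ?_
    rw [hT, LinearMap.zero_apply]
    have h9 : ((T η).map (kernel.ι s)).hom v = 0 := h8.1 (by
      rw [map_zero, ← hT, kernel.condition, Functor.map_zero]; rfl)
    rw [h9, map_zero]
  haveI := hmono
  haveI : IsIso s := isIso_of_mono_of_epi s
  have h1 := euler_sub (k := k) hdim Z hZ hN W
  rw [← H25Euler.euler_congr (k := k) (asIso s)] at h1
  simp only [degW]
  omega

/-- A module supported at finitely many points has at least as many sections as points. -/
theorem ncard_support_le {Q : X.Modules} (hQ : Coh.IsCoh Q) (hfin : (CohB1.support Q).Finite)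
    (hcl : ∀ z ∈ CohB1.support Q, IsClosed ({z} : Set X)) :
    (CohB1.support Q).ncard ≤ Module.finrank k (Coh.HH X Q 0) := by
  classical
  haveI := H28Int.isNoetherian k (X := X)
  haveI := H10Coh.finite_HH_proper k X Q hQ 0
  have hb := H25Par.germs_bijective (k := k) Q hfin hcl fun y hy => not_not.1 hy
  haveI := hfin.fintype
  haveI : ∀ z : CohB1.support Q, Module.Finite k (H25Par.Stk k Q z.1) := fun z =>
    Module.Finite.of_surjective ((LinearMap.proj (R := k) (φ := fun y : CohB1.support Q => H25Par.Stk k Q y.1) z).comp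
      (H25Par.germs (k := k) Q (CohB1.support Q)))
      ((LinearMap.proj_surjective (R := k) (φ := fun y : CohB1.support Q => H25Par.Stk k Q y.1) z).comp hb.2)
  rw [(LinearEquiv.ofBijective _ hb).finrank_eq, Module.finrank_pi_fintype, Set.ncard_eq_toFinset_card',
    Set.toFinset_card]
  refine (Finset.card_eq_sum_ones _).trans_le (Finset.sum_le_sum fun z _ => ?_)
  haveI : Nontrivial (H25Par.Stk k Q z.1) := not_subsingleton_iff_nontrivial.1 z.2
  exact Module.finrank_pos

end Groth.Agent.H23Gor
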