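import Groth.Agent.H4RSH.SerreCurve
import Groth.Agent.H4RSH.Gorenstein
import Groth.Agent.S3637
import Groth.Agent.S1811
import Groth.Agent.S0341
import Groth.Agent.H11Tilde.Local
import Groth.Agent.H4RepDual.Field

/-!
# The dualizing module of a Gorenstein curve
-/

set_option autoImplicit false
set_option linter.style.haveILetI false
set_option maxHeartbeats 1000000
set_option synthInstance.maxHeartbeats 400000

universe u

open CategoryTheory CategoryTheory.Limits AlgebraicGeometry

attribute [local instance] HasDerivedCategory.standard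

namespace Groth.Agent.H23Gor

open Groth.Agent.H16Derived
open Groth.Agent.H16Derived.KFlat.Stalk (rd)

/-- A locally unit complex with one nonzero cohomology sheaf, which has full support, has it invertible. -/
theorem isInvertible_HD_of_isLocUnit {X : Scheme.{u}}
    [∀ (U : Scheme.{u}) (j : U ⟶ X) [IsOpenImmersion j], PreservesFiniteLimits (Scheme.Modules.restrictFunctor j)]
    {E : DCoh.D X} (h : H4RSH.IsLocUnit E) (i : ℤ)
    (hnt : ∀ x : X, Nontrivial ((DCoh.HD E i).presheaf.stalk x)) : PicF.IsInvertible (DCoh.HD E i) := by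
  choose U j hj m hx he using h
  refine H11Tilde.isInvertible_of_openImmersions j (fun x => ⟨x, hx x⟩) _ fun x => ?_
  obtain ⟨e⟩ := he x
  let O := Coh.structureModule (U x)
  let e₁ : (Scheme.Modules.restrictFunctor (j x)).obj (DCoh.HD E i) ≅ DCoh.HD (DCoh.inD (U x) O) (m x + i) :=
    (H4DualSch.hdRestrict (j x) E i).symm ≪≫ (DerivedCategory.homologyFunctor _ i).mapIso e ≪≫
      ((DerivedCategory.homologyFunctor (U x).Modules 0).shiftIso (m x) i (m x + i) rfl).app _
  have hm : m x + i = 0 := by
    by_contra hm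
    obtain ⟨y, hy⟩ := hx x
    have hz : IsZero ((Scheme.Modules.restrictFunctor (j x)).obj (DCoh.HD E i)) :=
      (KFlat.Stalk.isZero_hdInD O (m x + i) hm).of_iso e₁
    have h1 := (H4DualSch.nontrivial_stalk_restrict_iff (j x) (DCoh.HD E i) y).2 (hnt _)
    have h2 := (Scheme.Modules.toPresheaf (U x) ⋙ TopCat.Presheaf.stalkFunctor _ y).map_isZero hz
    exact not_subsingleton_iff_nontrivial.2 h1 (AddCommGrpCat.subsingleton_of_isZero h2)
  exact H11Tilde.isInvertible_of_iso ((e₁ ≪≫ eqToIso (by rw [hm]) ≪≫ KFlat.Stalk.hdInD O).symm)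
    H11Ample.isInvertible_structureModule

/-- On a Gorenstein integral proper curve some invertible module has degree `-2 χ(O)`. -/
theorem exists_invertible_deg (k : Type u) [Field k] (X : Scheme.{u}) [X.Over (Spec (CommRingCat.of k))]
    [IsIntegral X] [IsProper (X ↘ Spec (CommRingCat.of k))] (hdim : topologicalKrullDim X = 1)
    (hgor : ∀ x : X, LocCoh.IsGorensteinLocalRing (X.presheaf.stalk x)) :
    ∃ ω : X.Modules, PicF.IsInvertible ω ∧
      Curv2.deg k X ω 1 = -2 * Curv2.euler k X (Coh.structureModule X) := by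
  let f := X ↘ Spec (CommRingCat.of k)
  haveI := H4RepDual.hasExtModules X
  haveI := H16Derived.QCohD.hasRpush f
  haveI : CompactSpace X := QuasiCompact.compactSpace_of_compactSpace f
  haveI : QuasiSeparatedSpace X := quasiSeparatedSpace_of_quasiSeparated f
  haveI : IsLocallyNoetherian X := LocallyOfFiniteType.isLocallyNoetherian f
  haveI := H16Derived.QCohD.preservesFiniteLimits_tilde_of k
  haveI : ∀ (U : Scheme.{u}) (j : U ⟶ X) [IsOpenImmersion j],
      PreservesFiniteLimits (Scheme.Modules.restrictFunctor j) := fun U j _ => inferInstance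
  haveI : ∀ (R : CommRingCat.{u}), PreservesFiniteLimits (tilde.functor R) := fun R =>
    H16Derived.QCohD.preservesFiniteLimits_tilde_of R
  have h : DCoh.RpushPreservesQCoh f := fun K hK => H16Derived.QCohD.isQCohD_rpush f hK
  haveI := LeadBrown.isLeftAdjoint_rpushQ f h
  let adj := Adjunction.ofIsLeftAdjoint (DCoh.RpushQ f h)
  let S := Spec (CommRingCat.of k)
  let O : DCoh.DQCoh S := ⟨DCoh.inD S (Coh.structureModule S),
    H16Derived.TorTest.isQCohD_inD H10Coh.isQuasicoherent_unit⟩
  have hO : Nonempty (O.obj ≅ DCoh.inD S (Coh.structureModule S)) := ⟨Iso.refl _⟩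
  have hequi : ∀ Z : Set X, Z ∈ irreducibleComponents X → topologicalKrullDim ↥Z = ((1 : ℕ) : WithBot ℕ∞) := by
    intro Z hZ
    rw [irreducibleComponents_eq_singleton, Set.mem_singleton_iff] at hZ
    subst hZ
    rw [(Homeomorph.Set.univ X).isHomeomorph.topologicalKrullDim_eq]
    exact_mod_cast hdim
  have hCM : ∀ x : X, LocCoh.IsCohenMacaulayLocalRing (X.presheaf.stalk x) := fun x =>
    haveI := hgor x
    Groth.Agent.S0341.result _
  obtain ⟨hz, hcoh, hst⟩ := Groth.Agent.S3637.result k X f hCM 1 hequi h _ adj O hO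
  obtain ⟨hdual, -, -⟩ := Groth.Agent.S1811.result k X 1 (by exact_mod_cast hdim) f rfl h _ adj O hO
  have hinv := isInvertible_HD_of_isLocUnit (H4RSH.isLocUnit_of_gorenstein hdual hgor)
    (-((1 : ℕ) : ℤ)) fun x => (hst x).1
  refine ⟨_, hinv, ?_⟩
  have hX : topologicalKrullDim X ≤ ((1 : ℕ) : WithBot ℕ∞) := by exact_mod_cast hdim.le
  obtain ⟨e0⟩ := H4RSH.SerreDual.nonempty_serre_equiv adj O hO hz hX (p := 0) (q := 1) rfl
  obtain ⟨e1⟩ := H4RSH.SerreDual.nonempty_serre_equiv adj O hO hz hX (p := 1) (q := 0) rfl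
  unfold Curv2.deg
  rw [H4RSH.SerreDual.euler_eq (hf := h) hX hcoh.1,
    H4RSH.SerreDual.euler_eq (hf := h) hX H10Coh.isQuasicoherent_unit, e0.finrank_eq, e1.finrank_eq,
    Subspace.dual_finrank_eq, Subspace.dual_finrank_eq]
  ring

end Groth.Agent.H23Gor
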