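import Groth.Agent.H11Node.Ring
import Groth.Agent.H17.AnnSheaf

/-!
# Two annihilating radical ideals at a node
-/

set_option autoImplicit false
set_option linter.style.haveILetI false

universe u

open IsLocalRing

namespace Groth.Agent.H23Gor

open Groth.Agent.H11Node

variable {K : Type u} [Field K]

instance nodeRing_nontrivial : Nontrivial (NodeRing K) :=
  (branch (0 : Fin 2)).domain_nontrivial

theorem branch_eq_zero_or (i : Fin 2) {J J' : Ideal (NodeRing K)}
    (h : ∀ a ∈ J, ∀ b ∈ J', a * b = 0) : J ≤ RingHom.ker (branch i) ∨ J' ≤ RingHom.ker (branch i) := by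
  by_contra hne
  rw [not_or] at hne
  obtain ⟨a, ha, ha'⟩ := Set.not_subset.1 hne.1
  obtain ⟨b, hb, hb'⟩ := Set.not_subset.1 hne.2
  refine mul_ne_zero (a := branch i a) (b := branch i b) ha' hb' ?_
  rw [← map_mul, h a ha b hb, map_zero]

theorem nonunit_mem_sup {a : NodeRing K} (ha : ¬ IsUnit a) :
    a ∈ RingHom.ker (branch (0 : Fin 2)) ⊔ RingHom.ker (branch (1 : Fin 2)) := by
  classical
  obtain ⟨f, rfl⟩ := Ideal.Quotient.mk_surjective a
  have hc : MvPowerSeries.constantCoeff f = 0 := by
    by_contra h
    exact ha ((MvPowerSeries.isUnit_iff_constantCoeff.2 (Ne.isUnit h)).map _)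
  let f₁ : MvPowerSeries (Fin 2) K := fun m => if m 0 = 0 then MvPowerSeries.coeff m f else 0
  have hf₁ : ∀ m, MvPowerSeries.coeff m f₁ = if m 0 = 0 then MvPowerSeries.coeff m f else 0 := fun m => rfl
  obtain ⟨g, hg⟩ : (MvPowerSeries.X 1 : MvPowerSeries (Fin 2) K) ∣ f₁ := MvPowerSeries.X_dvd_iff.2 fun m hm => by
    rw [hf₁]
    split_ifs with h0
    · have e : m = 0 := by ext j; fin_cases j <;> simp [h0, hm]
      rw [e, MvPowerSeries.coeff_zero_eq_constantCoeff_apply, hc]
    · rfl
  obtain ⟨g', hg'⟩ : (MvPowerSeries.X 0 : MvPowerSeries (Fin 2) K) ∣ f - f₁ := MvPowerSeries.X_dvd_iff.2 fun m hm => by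
    rw [map_sub, hf₁, if_pos hm, sub_self]
  rw [show f = f₁ + (f - f₁) from (add_sub_cancel f₁ f).symm, map_add, hg', hg]
  refine add_mem (Ideal.mem_sup_left ?_) (Ideal.mem_sup_right ?_)
  · rw [RingHom.mem_ker, branch_mk, map_mul, axis_X_of_ne (by decide), zero_mul]
  · rw [RingHom.mem_ker, branch_mk, map_mul, axis_X_of_ne (by decide), zero_mul]

/-- In the node, nonzero ideals which are each other's annihilators add up to all non-units. -/
theorem nonunit_mem_of_annihilators {J J' : Ideal (NodeRing K)} (hJ : J ≠ ⊥) (hJ' : J' ≠ ⊥)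
    (h1 : J' = Module.annihilator (NodeRing K) J) (h2 : J = Module.annihilator (NodeRing K) J')
    {a : NodeRing K} (ha : ¬ IsUnit a) : a ∈ J ⊔ J' := by
  have h : ∀ x ∈ J, ∀ y ∈ J', x * y = 0 := fun x hx y hy => by
    rw [h1, Module.mem_annihilator] at hy
    have := congrArg Subtype.val (hy ⟨x, hx⟩)
    rw [mul_comm]
    exact this
  have key : ∀ (i j : Fin 2), i ≠ j → ∀ L L' : Ideal (NodeRing K), L' = Module.annihilator (NodeRing K) L →
      L ≤ RingHom.ker (branch i) → RingHom.ker (branch j) ≤ L' := by
    intro i j hij L L' hL hle b hb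
    rw [hL, Module.mem_annihilator]
    rintro ⟨x, hx⟩
    refine Subtype.ext ?_
    show b * x = 0
    have hxi : branch i x = 0 := hle hx
    have hbj : branch j b = 0 := hb
    have hk : ∀ k, branch k (b * x) = 0 := fun k => by
      rcases eq_or_ne k i with rfl | hki
      · rw [map_mul, hxi, mul_zero]
      · have hkj : k = j := by omega
        rw [hkj, map_mul, hbj, zero_mul]
    exact branch_injective (hk 0) (hk 1)
  have hne : ∀ L : Ideal (NodeRing K), L ≠ ⊥ → L ≤ RingHom.ker (branch 0) → ¬ L ≤ RingHom.ker (branch 1) :=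
    fun L hL h0 h1 => hL (eq_bot_iff.2 fun x hx => branch_injective (h0 hx) (h1 hx))
  rcases branch_eq_zero_or 0 h with h0 | h0
  · have h1' : J' ≤ RingHom.ker (branch 1) := (branch_eq_zero_or 1 h).resolve_left (hne J hJ h0)
    refine SetLike.le_def.1 (sup_le ?_ ?_) (nonunit_mem_sup ha)
    · exact (key 1 0 (by decide) J' J h2 h1').trans le_sup_left
    · exact (key 0 1 (by decide) J J' h1 h0).trans le_sup_right
  · have h1' : J ≤ RingHom.ker (branch 1) := (branch_eq_zero_or 1 h).resolve_right (hne J' hJ' h0)
    refine SetLike.le_def.1 (sup_le ?_ ?_) (nonunit_mem_sup ha)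
    · exact (key 1 0 (by decide) J J' h1 h1').trans le_sup_right
    · exact (key 0 1 (by decide) J' J h2 h0).trans le_sup_left

/-- Annihilators of finitely generated ideals commute with flat extensions. -/
theorem annihilator_map {A R : Type u} [CommRing A] [CommRing R] [Algebra A R] [Module.Flat A R] (L : Ideal A)
    (hL : L.FG) : Module.annihilator R (L.map (algebraMap A R) : Ideal R) =
      (Module.annihilator A L).map (algebraMap A R) := by
  refine le_antisymm (fun b hb => ?_) ?_
  · -- flatness: the annihilator of finitely many elements is a finite intersection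
    obtain ⟨n, s, hs⟩ := Submodule.fg_iff_exists_fin_generating_family.1 hL
    let m : A →ₗ[A] (Fin n → A) := LinearMap.pi fun i => LinearMap.mulRight A (s i)
    have hex : Function.Exact (Submodule.subtype (Module.annihilator A L)) m := by
      intro a
      refine ⟨fun ha => ⟨⟨a, Module.mem_annihilator.2 ?_⟩, rfl⟩, ?_⟩
      · rintro ⟨x, hx⟩
        refine Subtype.ext ?_
        show a * x = 0
        rw [← hs] at hx
        induction hx using Submodule.span_induction with
        | mem y hy => obtain ⟨i, rfl⟩ := hy; exact congrFun ha i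
        | zero => exact mul_zero _
        | add y z _ _ hy hz => rw [mul_add, hy, hz, add_zero]
        | smul r y _ hy => rw [smul_eq_mul, mul_left_comm, hy, mul_zero]
      · rintro ⟨c, rfl⟩
        funext i
        exact congrArg Subtype.val (Module.mem_annihilator.1 c.2
          ⟨s i, hs ▸ Submodule.subset_span ⟨i, rfl⟩⟩)
    have hT := Module.Flat.lTensor_exact R hex
    have hz : m.lTensor R (b ⊗ₜ 1) = 0 := by
      rw [LinearMap.lTensor_tmul]
      apply (TensorProduct.piScalarRight A R R (Fin n)).injective
      rw [map_zero]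
      funext i
      have hsi : (algebraMap A R) (s i) ∈ L.map (algebraMap A R) := Ideal.mem_map_of_mem (algebraMap A R) (hs ▸ Submodule.subset_span ⟨i, rfl⟩)
      simpa [m, Algebra.smul_def, RingHom.algebraMap_toAlgebra, mul_comm] using
        congrArg Subtype.val (Module.mem_annihilator.1 hb ⟨_, hsi⟩)
    obtain ⟨z, hz'⟩ := (hT _).1 hz
    have hmem : ∀ z, TensorProduct.rid A R ((Submodule.subtype (Module.annihilator A L)).lTensor
        R z) ∈ (Module.annihilator A L).map (algebraMap A R) := by
      intro z
      induction z using TensorProduct.induction_on with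
      | zero => simp
      | tmul c a =>
        rw [LinearMap.lTensor_tmul, TensorProduct.rid_tmul, Algebra.smul_def]
        exact Ideal.mul_mem_right _ _ (Ideal.mem_map_of_mem _ a.2)
      | add x y hx hy => rw [map_add, map_add]; exact add_mem hx hy
    have := hmem z
    rwa [hz', TensorProduct.rid_tmul, one_smul] at this
  · rw [Ideal.map_le_iff_le_comap]
    intro a ha
    rw [Ideal.mem_comap, Module.mem_annihilator]
    rintro ⟨y, hy⟩
    refine Subtype.ext ?_
    show (algebraMap A R) a * y = 0
    change y ∈ Submodule.span R ((algebraMap A R) '' (L : Set A)) at hy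
    induction hy using Submodule.span_induction with
    | mem w hw =>
      obtain ⟨x, hx, rfl⟩ := hw
      rw [← map_mul, show a * x = 0 from congrArg Subtype.val (Module.mem_annihilator.1 ha ⟨x, hx⟩), map_zero]
    | zero => exact mul_zero _
    | add y z _ _ hy hz => rw [mul_add, hy, hz, add_zero]
    | smul r y _ hy => rw [smul_eq_mul, mul_left_comm, hy, mul_zero]

variable {A B : Type u} [CommRing A] [IsLocalRing A] [IsNoetherianRing A] [CommRing B] [IsLocalRing B]
  [IsNoetherianRing B]

/-- Two ideals which are each other's annihilators, below a node, add up to the maximal ideal. -/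
theorem sup_eq_maximal_of_node (φ : A →+* B) (hφ : φ.Flat) [IsLocalHom φ]
    (e : AdicCompletion (maximalIdeal B) B ≃+* NodeRing K) {I I' : Ideal A} (hI : I ≠ ⊥) (hI' : I' ≠ ⊥)
    (h1 : I' = Module.annihilator A I) (h2 : I = Module.annihilator A I') : I ⊔ I' = maximalIdeal A := by
  let ψ : A →+* NodeRing K := e.toRingHom.comp ((algebraMap B (AdicCompletion (maximalIdeal B) B)).comp φ)
  have hψ : ψ.Flat := by
    refine RingHom.Flat.comp (RingHom.Flat.comp hφ ?_) (RingHom.Flat.of_bijective e.bijective)
    exact RingHom.flat_algebraMap_iff.2 inferInstance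
  letI := ψ.toAlgebra
  haveI : Module.Flat A (NodeRing K) := hψ
  have hunit : ∀ a : A, IsUnit (ψ a) → IsUnit a := fun a ha => by
    have h := ha.map e.symm.toRingHom
    have e1 : e.symm.toRingHom (ψ a) = algebraMap B _ (φ a) := e.symm_apply_apply _
    rw [e1] at h
    refine isUnit_of_map_unit φ a ?_
    by_contra hu
    have hm : φ a ∈ maximalIdeal B := hu
    have := Ideal.mem_map_of_mem (algebraMap B (AdicCompletion (maximalIdeal B) B)) hm
    rw [← AdicCompletion.maximalIdeal_eq_map] at this
    exact this h
  have hinj : Function.Injective ψ := by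
    have hφinj : Function.Injective φ := by
      letI := φ.toAlgebra
      haveI : Module.Flat A B := hφ
      haveI : IsLocalHom (algebraMap A B) := ‹IsLocalHom φ›
      haveI := Module.FaithfullyFlat.of_flat_of_isLocalHom (A := A) (B := B)
      refine (injective_iff_map_eq_zero φ).2 fun x hx => ?_
      have h1 : x ∈ ((⊥ : Ideal A).map (algebraMap A B)).comap (algebraMap A B) := by
        rw [Ideal.mem_comap, Ideal.map_bot, Ideal.mem_bot]
        exact hx
      rwa [Ideal.comap_map_eq_self_of_faithfullyFlat, Ideal.mem_bot] at h1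
    exact e.injective.comp ((AdicCompletion.of_injective (maximalIdeal B) B).comp hφinj)
  have hann : ∀ L : Ideal A, Module.annihilator (NodeRing K) (L.map ψ : Ideal (NodeRing K)) =
      (Module.annihilator A L).map ψ := fun L =>
    annihilator_map (R := NodeRing K) L (IsNoetherian.noetherian L)
  have hproper : ∀ L L' : Ideal A, L' ≠ ⊥ → L' = Module.annihilator A L → L ≤ maximalIdeal A := by
    intro L L' hL' hLL'
    refine IsLocalRing.le_maximalIdeal fun hL => hL' ?_
    rw [hLL', hL, eq_bot_iff]
    intro x hx
    simpa using congrArg Subtype.val (Module.mem_annihilator.1 hx ⟨1, trivial⟩)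
  have hne : ∀ L : Ideal A, L ≠ ⊥ → L.map ψ ≠ ⊥ := fun L hL h =>
    hL (eq_bot_iff.2 fun x hx => hinj ((Ideal.mem_bot.1 (h ▸ Ideal.mem_map_of_mem ψ hx)).trans (map_zero ψ).symm))
  refine le_antisymm (sup_le (hproper I I' hI' h1) (hproper I' I hI h2)) fun a ha => ?_
  have hmem := nonunit_mem_of_annihilators (hne I hI) (hne I' hI') (by rw [hann, ← h1]) (by rw [hann, ← h2])
    (a := ψ a) fun h => ha (hunit a h)
  rw [← Ideal.map_sup] at hmem
  haveI : IsLocalHom (algebraMap A (NodeRing K)) := ⟨fun a h => hunit a h⟩
  haveI : IsLocalRing (NodeRing K) :=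
    IsLocalRing.of_surjective' (Ideal.Quotient.mk (nodeIdeal K)) Ideal.Quotient.mk_surjective
  haveI : Module.FaithfullyFlat A (NodeRing K) := Module.FaithfullyFlat.of_flat_of_isLocalHom
  exact (Ideal.comap_map_eq_self_of_faithfullyFlat (A := A) (B := NodeRing K) (I ⊔ I')).le hmem

end Groth.Agent.H23Gor
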