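import Groth.Agent.H23Gor.NodalSubcurve
import Groth.Agent.H23Gor.NodeSum
import Groth.Agent.H11Node.Geom
import Groth.Agent.H27HW.Finite

/-!
# A subcurve of a nodal curve meets the rest transversally
-/

set_option autoImplicit false
set_option linter.style.haveILetI false
set_option linter.unusedSectionVars false
set_option backward.isDefEq.respectTransparency false
set_option synthInstance.maxHeartbeats 400000

universe u

open CategoryTheory CategoryTheory.Limits AlgebraicGeometry TopologicalSpace IsLocalRing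
open Groth.Agent.H29CurveDual.Subcurve

namespace Groth.Agent.H23Gor

open Groth.Agent.H17.GorCurve (mem_iff_notMem_compl mem_compl_of_notMem)

local notation "cmp" => Groth.Agent.H17.GorCurve.compl

/-- The functions vanishing outside a closed set annihilate those vanishing on it. -/
theorem vanishingIdeal_compl {A : Type u} [CommRing A] [_root_.IsReduced A] {T : Set (PrimeSpectrum A)}
    (hT : IsClosed T) : PrimeSpectrum.vanishingIdeal (closure Tᶜ) =
      Module.annihilator A (PrimeSpectrum.vanishingIdeal T) := by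
  ext a
  rw [PrimeSpectrum.vanishingIdeal_closure, PrimeSpectrum.mem_vanishingIdeal, Module.mem_annihilator]
  constructor
  · rintro ha ⟨b, hb⟩
    refine Subtype.ext ?_
    show a * b = 0
    refine IsNilpotent.eq_zero ?_
    rw [← mem_nilradical, nilradical_eq_sInf]
    refine Submodule.mem_sInf.2 fun (p : Ideal A) (hp : p.IsPrime) => ?_
    by_cases h : (⟨p, hp⟩ : PrimeSpectrum A) ∈ T
    · exact Ideal.mul_mem_left _ _ ((PrimeSpectrum.mem_vanishingIdeal _ _).1 hb _ h)
    · exact Ideal.mul_mem_right _ _ (ha _ h)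
  · intro ha p hp
    obtain ⟨b, hb, hbp⟩ : ∃ b ∈ PrimeSpectrum.vanishingIdeal T, b ∉ p.asIdeal := by
      by_contra h
      push Not at h
      refine hp ?_
      rw [← hT.closure_eq, ← PrimeSpectrum.zeroLocus_vanishingIdeal_eq_closure, PrimeSpectrum.mem_zeroLocus]
      exact h
    have h0 : a * b = 0 := congrArg Subtype.val (ha ⟨b, hb⟩)
    exact (p.isPrime.mem_or_mem (h0 ▸ p.asIdeal.zero_mem)).resolve_right hbp

variable {X : Scheme.{u}}

/-- The complementary curve has the annihilator ideal. -/
theorem ideal_compl [IsReduced X] (W : Closeds X) (U : X.affineOpens) :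
    (idl (cmp W)).ideal U = Module.annihilator Γ(X, U.1) ((idl W).ideal U) := by
  haveI : _root_.IsReduced Γ(X, U.1) := inferInstance
  have hT : IsClosed (U.2.fromSpec ⁻¹' (W : Set X)) := W.isClosed.preimage U.2.fromSpec.continuous
  rw [Scheme.IdealSheafData.vanishingIdeal_ideal, Scheme.IdealSheafData.vanishingIdeal_ideal]
  show PrimeSpectrum.vanishingIdeal (U.2.fromSpec ⁻¹' closure ((W : Set X)ᶜ)) = _
  erw [U.2.fromSpec.isOpenEmbedding.isOpenMap.preimage_closure_eq_closure_preimage U.2.fromSpec.continuous]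
  exact vanishingIdeal_compl (A := Γ(X, U.1)) hT

theorem compl_compl [IsNoetherian X] (hdim : topologicalKrullDim X ≤ 1) (hp : IsPure (⊤ : Closeds X))
    {W : Closeds X} (hW : IsPure W) : cmp (cmp W) = W := by
  refine le_antisymm (closure_minimal (fun x hx => ?_) W.isClosed) fun x hx => ?_
  · by_contra h
    exact hx (mem_compl_of_notMem h)
  · refine closure_mono ?_ (hW hx)
    rintro η ⟨hηW, hη⟩
    exact (mem_iff_notMem_compl hdim hp W hη).1 hηW

variable (k : Type u) [Field k] [X.Over (Spec (CommRingCat.of k))] [IsProper (X ↘ Spec (CommRingCat.of k))]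

include k in
/-- At a point of both curves the two ideals generate the maximal ideal. -/
theorem map_ideal_sup [IsReduced X] (hdim : topologicalKrullDim X ≤ 1)
    (hp : IsPure (⊤ : Closeds X)) (hX : Curv2.AtWorstNodal k X) {W : Closeds X} (hW : IsPure W)
    (U : X.affineOpens) {x : X} (hxU : x ∈ U.1) (hxW : x ∈ W) (hxW' : x ∈ cmp W) :
    IsClosed ({x} : Set X) ∧ ((idl W ⊔ idl (cmp W)).ideal U).map (X.presheaf.germ U.1 x hxU).hom =
      maximalIdeal (X.presheaf.stalk x) := by
  haveI := H28Int.isNoetherian k (X := X)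
  have hxc : IsClosed ({x} : Set X) := by
    by_contra h
    exact (mem_iff_notMem_compl hdim hp W h).1 hxW hxW'
  refine ⟨hxc, ?_⟩
  haveI : IsNoetherianRing Γ(X, U.1) := IsLocallyNoetherian.component_noetherian U
  letI := TopCat.Presheaf.algebra_section_stalk X.presheaf (⟨x, hxU⟩ : U.1)
  haveI hloc : IsLocalization.AtPrime (X.presheaf.stalk x) (U.2.primeIdealOf ⟨x, hxU⟩).asIdeal :=
    U.2.isLocalization_stalk ⟨x, hxU⟩
  haveI : Module.Flat Γ(X, U.1) (X.presheaf.stalk x) :=
    IsLocalization.flat (X.presheaf.stalk x) (U.2.primeIdealOf ⟨x, hxU⟩).asIdeal.primeCompl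
  let O := X.presheaf.stalk x
  let g := algebraMap Γ(X, U.1) O
  let I := (idl W).ideal U
  let I' := (idl (cmp W)).ideal U
  have e1 : I' = Module.annihilator Γ(X, U.1) I := ideal_compl W U
  have e2 : I = Module.annihilator Γ(X, U.1) I' := by
    have := ideal_compl (cmp W) U
    rwa [compl_compl hdim hp hW] at this
  have hne : ∀ (V V' : Closeds X), x ∈ V' → (idl V').ideal U = Module.annihilator Γ(X, U.1) ((idl V).ideal U) →
      ((idl V).ideal U).map g ≠ ⊥ := by
    intro V V' hx hV h0
    have hall : ∀ i ∈ (idl V).ideal U, g i = 0 := fun i hi =>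
      (Ideal.mem_bot).1 (h0 ▸ Ideal.mem_map_of_mem g hi)
    obtain ⟨n, s, hs⟩ := Submodule.fg_iff_exists_fin_generating_family.1 (IsNoetherian.noetherian ((idl V).ideal U))
    choose c hc using fun i : Fin n => (IsLocalization.map_eq_zero_iff
      (U.2.primeIdealOf ⟨x, hxU⟩).asIdeal.primeCompl O (s i)).1 (hall (s i) (hs ▸ Submodule.subset_span ⟨i, rfl⟩))
    let m : Γ(X, U.1) := ∏ i, (c i : Γ(X, U.1))
    have hm : m ∉ (U.2.primeIdealOf ⟨x, hxU⟩).asIdeal :=
      Submonoid.prod_mem (U.2.primeIdealOf ⟨x, hxU⟩).asIdeal.primeCompl fun i _ => (c i).2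
    have hmem : m ∈ (idl V').ideal U := by
      rw [hV, Module.mem_annihilator]
      rintro ⟨y, hy⟩
      refine Subtype.ext ?_
      show m * y = 0
      rw [← hs] at hy
      induction hy using Submodule.span_induction with
      | mem y hy =>
        obtain ⟨i, rfl⟩ := hy
        obtain ⟨d, hd⟩ : (c i : Γ(X, U.1)) ∣ m := Finset.dvd_prod_of_mem _ (Finset.mem_univ i)
        rw [hd, mul_right_comm, hc i, zero_mul]
      | zero => exact mul_zero _
      | add y z _ _ hy hz => rw [mul_add, hy, hz, add_zero]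
      | smul r y _ hy => rw [smul_eq_mul, mul_left_comm, hy, mul_zero]
    refine hm ?_
    rw [Scheme.IdealSheafData.vanishingIdeal_ideal] at hmem
    refine (PrimeSpectrum.mem_vanishingIdeal _ _).1 hmem _ ?_
    show U.2.fromSpec (U.2.primeIdealOf ⟨x, hxU⟩) ∈ V'
    rw [U.2.fromSpec_primeIdealOf]
    exact hx
  have hI : I.map g ≠ ⊥ := hne W (cmp W) hxW' e1
  have hI' : I'.map g ≠ ⊥ := hne (cmp W) W hxW e2
  have f1 : I'.map g = Module.annihilator O (I.map g : Ideal O) := by
    rw [annihilator_map I (IsNoetherian.noetherian I), ← e1]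
  have f2 : I.map g = Module.annihilator O (I'.map g : Ideal O) := by
    rw [annihilator_map I' (IsNoetherian.noetherian I'), ← e2]
  rcases hX x hxc with ⟨V, hxV, hV⟩ | hn
  · exfalso
    haveI := hV
    haveI := H19Grp.isRegularLocalRing_stalk_of_smooth (V.ι ≫ (X ↘ Spec (CommRingCat.of k))) ⟨x, hxV⟩
    haveI := H4Depth.isDomain_of_isRegularLocalRing ((V : Scheme.{u}).presheaf.stalk ⟨x, hxV⟩)
    haveI : IsDomain O := (V.stalkIso ⟨x, hxV⟩).commRingCatIsoToRingEquiv.symm.toMulEquiv.isDomain _
    obtain ⟨a, ha, ha0⟩ := Submodule.exists_mem_ne_zero_of_ne_bot hI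
    refine hI' (eq_bot_iff.2 fun b hb => ?_)
    rw [f1, Module.mem_annihilator] at hb
    have h : b * a = 0 := congrArg Subtype.val (hb ⟨a, ha⟩)
    exact (mul_eq_zero.1 h).resolve_right ha0
  · obtain ⟨xb, hxb, ⟨e⟩⟩ := H11Node.exists_completion_iso hn
    subst hxb
    haveI := H11Node.isLocallyNoetherian_bc (k := k) (X := X) (AlgebraicClosure k)
    haveI : Flat (Spec.map (CommRingCat.ofHom (algebraMap k (AlgebraicClosure k)))) := by
      rw [HasRingHomProperty.Spec_iff (P := @Flat)]
      exact RingHom.flat_algebraMap_iff.2 inferInstance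
    haveI : Flat (Curv2.bcFst k X (AlgebraicClosure k)) := MorphismProperty.pullback_fst _ _ inferInstance
    rw [Scheme.IdealSheafData.ideal_sup, Pi.sup_apply, Ideal.map_sup]
    exact sup_eq_maximal_of_node ((Curv2.bcFst k X (AlgebraicClosure k)).stalkMap xb).hom (Flat.stalkMap _ _) e
      hI hI' f1 f2

include k in
/-- The intersection of a subcurve with the complementary one is reduced and finite. -/
theorem isReduced_inter [IsReduced X] (hdim : topologicalKrullDim X ≤ 1)
    (hp : IsPure (⊤ : Closeds X)) (hX : Curv2.AtWorstNodal k X) {W : Closeds X} (hW : IsPure W) :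
    IsReduced (idl W ⊔ idl (cmp W)).subscheme := by
  let J := idl W ⊔ idl (cmp W)
  haveI : ∀ d : J.subscheme, _root_.IsReduced (J.subscheme.presheaf.stalk d) := fun d => by
    obtain ⟨U, hU, hdU, -⟩ := exists_isAffineOpen_mem_and_subset (x := J.subschemeι d) (U := (⊤ : X.Opens)) trivial
    have hd : J.subschemeι d ∈ (J.support : Set X) := J.range_subschemeι.le ⟨d, rfl⟩
    rw [Scheme.IdealSheafData.support_sup, Closeds.coe_inf, Scheme.IdealSheafData.coe_support_vanishingIdeal,
      Scheme.IdealSheafData.coe_support_vanishingIdeal] at hd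
    obtain ⟨-, h⟩ := map_ideal_sup k hdim hp hX hW ⟨U, hU⟩ hdU hd.1 hd.2
    have hker := (H29Blow.ker_stalkMap_subschemeι J d ⟨U, hU⟩ hdU).trans h
    let q := (J.subschemeι.stalkMap d).hom
    letI : Field (X.presheaf.stalk (J.subschemeι d) ⧸ RingHom.ker q) :=
      @Ideal.Quotient.field _ _ _ (hker ▸ maximalIdeal.isMaximal _)
    exact isReduced_of_injective (RingHom.quotientKerEquivOfSurjective (J.subschemeι.stalkMap_surjective d)).symm
      (RingHom.quotientKerEquivOfSurjective (J.subschemeι.stalkMap_surjective d)).symm.injective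
  exact isReduced_of_isReduced_stalk _

/-- The length of the intersection is its number of points. -/
theorem delta_eq_natCard [IsAlgClosed k] [IsReduced X] (hdim : topologicalKrullDim X ≤ 1)
    (hp : IsPure (⊤ : Closeds X)) (hX : Curv2.AtWorstNodal k X) {W : Closeds X} (hW : IsPure W) :
    H17.GorCurve.delta k W = (Nat.card ↥((W : Set X) ∩ (cmp W : Set X)) : ℤ) := by
  haveI := H28Int.isNoetherian k (X := X)
  let J := idl W ⊔ idl (cmp W)
  haveI := isReduced_inter k hdim hp hX hW
  have hS : (J.support : Set X) = (W : Set X) ∩ (cmp W : Set X) := by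
    rw [Scheme.IdealSheafData.support_sup, Closeds.coe_inf, Scheme.IdealSheafData.coe_support_vanishingIdeal,
      Scheme.IdealSheafData.coe_support_vanishingIdeal]
  have hfin : ((W : Set X) ∩ (cmp W : Set X)).Finite := by
    refine finite_of_closed_points (W.isClosed.inter (cmp W).isClosed) fun z hz => ?_
    by_contra h
    exact (mem_iff_notMem_compl hdim hp W h).1 hz.1 hz.2
  letI := H17.GorCurve.overJ k J
  haveI : IsProper (J.subscheme ↘ Spec (CommRingCat.of k)) :=
    inferInstanceAs (IsProper (J.subschemeι ≫ (X ↘ Spec (CommRingCat.of k))))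
  let e : J.subscheme ≃ ↥((W : Set X) ∩ (cmp W : Set X)) :=
    (Equiv.ofInjective _ J.subschemeι.isClosedEmbedding.injective).trans
      (Equiv.setCongr (J.range_subschemeι.trans hS))
  haveI := hfin.to_subtype
  haveI : Finite J.subscheme := Finite.of_equiv _ e.symm
  rw [H17.GorCurve.delta, finrank_quotMod k J 0]
  exact_mod_cast (H27HW.finrank_h0_eq_natCard k J.subscheme).trans (Nat.card_congr e)

end Groth.Agent.H23Gor
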