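import Groth.Agent.H23Gor.DualizingLine
import Groth.Agent.H17.GorCurve.Curve
import Groth.Agent.S1534
import Groth.Agent.S1589
import Groth.Agent.H14AlgSt.IdealLemmas
import Groth.Prelude.Def_Curv2

/-!
# The dualizing module of a nodal curve on its components
-/

set_option autoImplicit false
set_option linter.style.haveILetI false
set_option maxHeartbeats 1000000
set_option synthInstance.maxHeartbeats 400000

universe u

open CategoryTheory CategoryTheory.Limits AlgebraicGeometry TopologicalSpace

attribute [local instance] HasDerivedCategory.standard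

namespace Groth.Agent.H23Gor

/-- The dualizing module of a Gorenstein proper curve is invertible. -/
theorem isInvertible_dualizingMod (k : Type u) [Field k] (X : Scheme.{u}) [X.Over (Spec (CommRingCat.of k))]
    [IsProper (X ↘ Spec (CommRingCat.of k))] (hdim : topologicalKrullDim X = 1)
    (hequi : ∀ Z ∈ irreducibleComponents (X : Type u), topologicalKrullDim Z = 1)
    (hgor : ∀ x : X, LocCoh.IsGorensteinLocalRing (X.presheaf.stalk x))
    [DCoh.HasRpush (X ↘ Spec (CommRingCat.of k))] (h : DCoh.RpushPreservesQCoh (X ↘ Spec (CommRingCat.of k)))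
    [DCoh.HasShriek (X ↘ Spec (CommRingCat.of k)) h] (OY : DCoh.DQCoh (Spec (CommRingCat.of k)))
    (hOY : Nonempty (OY.obj ≅ DCoh.inD (Spec (CommRingCat.of k)) (Coh.structureModule (Spec (CommRingCat.of k))))) :
    PicF.IsInvertible (DCoh.dualizingMod (X ↘ Spec (CommRingCat.of k)) h OY 1) := by
  let f := X ↘ Spec (CommRingCat.of k)
  haveI := H4RepDual.hasExtModules X
  haveI : IsLocallyNoetherian X := LocallyOfFiniteType.isLocallyNoetherian f
  haveI : ∀ (U : Scheme.{u}) (j : U ⟶ X) [IsOpenImmersion j],
      PreservesFiniteLimits (Scheme.Modules.restrictFunctor j) := fun U j _ => inferInstance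
  haveI : ∀ (R : CommRingCat.{u}), PreservesFiniteLimits (tilde.functor R) := fun R =>
    H16Derived.QCohD.preservesFiniteLimits_tilde_of R
  have hCM : ∀ x : X, LocCoh.IsCohenMacaulayLocalRing (X.presheaf.stalk x) := fun x =>
    haveI := hgor x
    Groth.Agent.S0341.result _
  have adj := DCoh.shriekAdj f h
  obtain ⟨hz, -, hst⟩ := Groth.Agent.S3637.result k X f hCM 1
    (fun Z hZ => by exact_mod_cast hequi Z hZ) h _ adj OY hOY
  obtain ⟨hdual, -, -⟩ := Groth.Agent.S1811.result k X 1 (by exact_mod_cast hdim) f rfl h _ adj OY hOY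
  exact isInvertible_HD_of_isLocUnit (H4RSH.isLocUnit_of_gorenstein hdual hgor)
    (-((1 : ℕ) : ℤ)) fun x => (hst x).1

/-- Nodal curves with only constant functions are reduced, connected, with dualizing invertible module. -/
theorem nodal_setup (k : Type u) [Field k] (X : Scheme.{u}) [X.Over (Spec (CommRingCat.of k))]
    [IsProper (X ↘ Spec (CommRingCat.of k))] (hdim : topologicalKrullDim X = 1)
    (h0 : Module.finrank k (Coh.HH X (Coh.structureModule X) 0) = 1) (hX : Curv2.AtWorstNodal k X)
    [DCoh.HasRpush (X ↘ Spec (CommRingCat.of k))] (h : DCoh.RpushPreservesQCoh (X ↘ Spec (CommRingCat.of k)))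
    [DCoh.HasShriek (X ↘ Spec (CommRingCat.of k)) h] (OY : DCoh.DQCoh (Spec (CommRingCat.of k)))
    (hOY : Nonempty (OY.obj ≅ DCoh.inD (Spec (CommRingCat.of k)) (Coh.structureModule (Spec (CommRingCat.of k))))) :
    IsReduced X ∧ ConnectedSpace X ∧ (∀ Z ∈ irreducibleComponents (X : Type u), topologicalKrullDim Z = 1) ∧
      H17.GorCurve.IsDualizing k (DCoh.dualizingMod (X ↘ Spec (CommRingCat.of k)) h OY 1) := by
  let f := X ↘ Spec (CommRingCat.of k)
  haveI : IsLocallyNoetherian X := LocallyOfFiniteType.isLocallyNoetherian f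
  obtain ⟨hc, -, hequi⟩ := Groth.Agent.S1534.result k X hdim h0
  obtain ⟨hgor, hgr⟩ := Groth.Agent.S1589.result k X hequi hX
  haveI := hgr
  exact ⟨GeometricallyReduced.isReduced_of_flat_of_isLocallyNoetherian f, hc, hequi,
    H17.GorCurve.isDualizing_dualizingMod hdim.le h OY hOY (isInvertible_dualizingMod k X hdim hequi hgor h OY hOY)⟩

variable {X : Scheme.{u}}

/-- The ideal of the closure of an open set of a reduced scheme. -/
theorem ker_opens_ι [IsReduced X] (U : X.Opens) [QuasiCompact U.ι] :
    U.ι.ker = Scheme.IdealSheafData.vanishingIdeal ⟨closure (U : Set X), isClosed_closure⟩ := by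
  haveI : IsReduced U.toScheme := isReduced_of_isOpenImmersion U.ι
  rw [← Scheme.IdealSheafData.map_bot, ← H14AlgSt.vanishingIdeal_top_of_isReduced,
    Scheme.IdealSheafData.map_vanishingIdeal]
  congr 1
  ext1
  rw [Closeds.coe_closure, Closeds.coe_top, Set.image_univ, Scheme.Opens.range_ι]
  rfl

variable (k : Type u) [Field k] [X.Over (Spec (CommRingCat.of k))]

/-- Numbers of sections of the quotient by an ideal. -/
theorem finrank_quotMod (J : X.IdealSheafData) (n : ℕ) :
    Module.finrank k (Coh.HH X (ClSub.quotMod J) n) =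
      @Module.finrank k (@Coh.HH J.subscheme (Coh.structureModule J.subscheme) n) _ _
        (letI := H17.GorCurve.overJ k J; inferInstance) := by
  letI := H17.GorCurve.overJ k J
  haveI : (Coh.structureModule J.subscheme).IsQuasicoherent := H10Coh.isQuasicoherent_unit
  exact H28Int.Push.finrank_HH_push k J.subschemeι rfl _ n

/-- If evaluation at the only point of a reduced closed subscheme `Z` of `C` is bijective, restriction of
functions from `C` to `Z` is surjective. -/
theorem finrank_quotMod_le [IsProper (X ↘ Spec (CommRingCat.of k))] {I I' : X.IdealSheafData} (hle : I ≤ I')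
    [Subsingleton I'.subscheme] [IsReduced I'.subscheme] (z : I'.subscheme)
    (hev : Function.Bijective
      (I.subscheme.evaluation ⊤ ((Scheme.IdealSheafData.inclusion hle).base z) trivial)) :
    Module.finrank k (Coh.HH X (ClSub.quotMod I') 0) ≤ Module.finrank k (Coh.HH X (ClSub.quotMod I) 0) := by
  haveI := H28Int.isNoetherian k (X := X)
  haveI := H10Coh.finite_HH_proper k X (ClSub.quotMod I) (LeadDev.isCoh_push_structure I.subschemeι) 0
  let j := Scheme.IdealSheafData.inclusion hle
  let ρ := j.appTop.hom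
  have hj : j ≫ I.subschemeι = I'.subschemeι := Scheme.IdealSheafData.inclusion_subschemeι hle
  haveI : IsClosedImmersion (j ≫ I.subschemeι) := by rw [hj]; infer_instance
  haveI : IsClosedImmersion j := IsClosedImmersion.of_comp j I.subschemeι
  have hρ : Function.Surjective ρ := by
    intro w
    obtain ⟨a, ha⟩ : ∃ a, j.residueFieldMap z a = I'.subscheme.evaluation ⊤ z trivial w := by
      obtain ⟨b, hb⟩ := j.stalkMap_surjective z (I'.subscheme.presheaf.germ ⊤ z trivial w)
      refine ⟨I.subscheme.residue (j.base z) b, ?_⟩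
      have h1 := ConcreteCategory.congr_hom (Scheme.residue_residueFieldMap j z) b
      exact h1.trans (congrArg (I'.subscheme.residue z) hb)
    obtain ⟨y, hy⟩ := hev.2 a
    refine ⟨y, ?_⟩
    have h0 : I'.subscheme.evaluation ⊤ z trivial (ρ y - w) = 0 := by
      rw [map_sub, sub_eq_zero, ← ha, ← hy]
      exact (Scheme.evaluation_naturality_apply j z (V := ⊤) trivial y).symm
    have hb : I'.subscheme.basicOpen (ρ y - w) = ⊥ :=
      (I'.subscheme.basicOpen_eq_bot_iff_forall_evaluation_eq_zero _).2 fun x => by
        obtain ⟨x, hx⟩ := x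
        obtain rfl : x = z := Subsingleton.elim x z
        exact h0
    exact sub_eq_zero.1 ((basicOpen_eq_bot_iff _).1 hb)
  let ψ : Coh.HH X (ClSub.quotMod I) 0 →ₗ[k] Coh.HH X (ClSub.quotMod I') 0 :=
    { toFun := fun v => (H29RR.sec (ClSub.quotMod I')).symm
        (show Γ(ClSub.quotMod I', ⊤) from ρ (show Γ(I.subscheme, ⊤) from H29RR.sec (ClSub.quotMod I) v))
      map_add' := fun a b => by
        rw [map_add (H29RR.sec (ClSub.quotMod I))]
        exact (congrArg _ (map_add ρ _ _)).trans (map_add _ _ _)
      map_smul' := fun c v => by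
        refine (H29RR.sec (ClSub.quotMod I')).injective ?_
        rw [AddEquiv.apply_symm_apply, RingHom.id_apply, H29RR.sec_smul, H29RR.sec_smul, AddEquiv.apply_symm_apply]
        let a := H10Coh.globA (A := k) (X := X) c
        let z : Γ(I.subscheme, ⊤) := H29RR.sec (ClSub.quotMod I) v
        show ρ (I.subschemeι.appTop a * z) = I'.subschemeι.appTop a * ρ z
        rw [map_mul, ← hj, Scheme.Hom.comp_appTop]
        rfl }
  refine LinearMap.finrank_le_finrank_of_surjective (f := ψ) fun w => ?_
  obtain ⟨y, hy⟩ := hρ (show Γ(I'.subscheme, ⊤) from H29RR.sec (ClSub.quotMod I') w)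
  refine ⟨(H29RR.sec (ClSub.quotMod I)).symm (show Γ(ClSub.quotMod I, ⊤) from y),
    (H29RR.sec (ClSub.quotMod I')).injective ?_⟩
  show H29RR.sec (ClSub.quotMod I') ((H29RR.sec (ClSub.quotMod I')).symm _) = _
  rw [AddEquiv.apply_symm_apply, AddEquiv.apply_symm_apply]
  exact hy

variable [IsProper (X ↘ Spec (CommRingCat.of k))]

/-- Adjunction on an irreducible component with `H¹(O_C) = 0`. -/
theorem degJ_component [IsReduced X] [ConnectedSpace X] (hdim : topologicalKrullDim X = 1) {ω : X.Modules}
    (hω : H17.GorCurve.IsDualizing k ω)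
    (hequi : ∀ Z ∈ irreducibleComponents (X : Type u), topologicalKrullDim Z = 1)
    (C : Set X) (hC : C ∈ irreducibleComponents (X : Type u))
    (h1 : Subsingleton (Coh.HH (Scheme.IdealSheafData.vanishingIdeal
      ⟨C, isClosed_of_mem_irreducibleComponents C hC⟩).subscheme (Coh.structureModule (Scheme.IdealSheafData.vanishingIdeal
      ⟨C, isClosed_of_mem_irreducibleComponents C hC⟩).subscheme) 1)) :
    let IC := Scheme.IdealSheafData.vanishingIdeal ⟨C, isClosed_of_mem_irreducibleComponents C hC⟩
    let IX' := (Scheme.Opens.ι (⟨Cᶜ, (isClosed_of_mem_irreducibleComponents C hC).isOpen_compl⟩ : X.Opens)).ker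
    H17.GorCurve.degJ k IC ω = -2 * (Module.finrank k (Coh.HH X (ClSub.quotMod IC) 0) : ℤ) +
      (Module.finrank k (Coh.HH X (ClSub.quotMod (IC ⊔ IX')) 0) : ℤ) := by
  intro IC IX'
  haveI := H28Int.isNoetherian k (X := X)
  haveI : IsReduced IC.subscheme := H17.isReduced_vanishingIdeal_subscheme _
  have hr : Set.range IC.subschemeι = C := by
    rw [Scheme.IdealSheafData.range_subschemeι, Scheme.IdealSheafData.coe_support_vanishingIdeal]; rfl
  let e := IC.subschemeι.isClosedEmbedding.isEmbedding.toHomeomorph
  haveI : ConnectedSpace C := isConnected_iff_connectedSpace.1 hC.1.isConnected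
  haveI : ConnectedSpace (Set.range IC.subschemeι) := hr.symm ▸ ‹ConnectedSpace C›
  haveI : ConnectedSpace IC.subscheme := e.symm.surjective.connectedSpace e.symm.continuous
  have hd : topologicalKrullDim IC.subscheme = 1 := by
    rw [e.isHomeomorph.topologicalKrullDim_eq, hr, hequi C hC]
  haveI : QuasiCompact (Scheme.Opens.ι (⟨Cᶜ, (isClosed_of_mem_irreducibleComponents C hC).isOpen_compl⟩ : X.Opens)) :=
    inferInstance
  have hX' : IX' = Scheme.IdealSheafData.vanishingIdeal ⟨closure ((IC.support : Set X)ᶜ), isClosed_closure⟩ := by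
    rw [show IX' = _ from ker_opens_ι _]
    congr 1
  rw [H17.GorCurve.degJ_omega hdim hω IC hd, hX', finrank_quotMod k IC 0]
  letI := H17.GorCurve.overJ k IC
  haveI : IsProper (IC.subscheme ↘ Spec (CommRingCat.of k)) :=
    inferInstanceAs (IsProper (IC.subschemeι ≫ (X ↘ Spec (CommRingCat.of k))))
  haveI := h1
  rw [H29RR.euler_eq_sub (k := k) hd.le, Module.finrank_zero_of_subsingleton (R := k)
    (M := Coh.HH IC.subscheme (Coh.structureModule IC.subscheme) 1)]
  simp

end Groth.Agent.H23Gor
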