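import Groth.Agent.H23Gor.Stable
import Groth.Agent.H23Gor.NodalDelta
import Groth.Agent.H11Node.Geom

/-!
# Pointed nodal curves: degrees of `ω(D)`
-/

set_option autoImplicit false
set_option linter.style.haveILetI false
set_option linter.unusedSectionVars false
set_option backward.isDefEq.respectTransparency false
set_option synthInstance.maxHeartbeats 400000
set_option maxHeartbeats 1000000

universe u

open CategoryTheory CategoryTheory.Limits AlgebraicGeometry TopologicalSpace Opposite
open Groth.Agent.H29RR Groth.Agent.H29CurveDual Groth.Agent.H29CurveDual.Subcurve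

attribute [local instance] HasDerivedCategory.standard

namespace Groth.Agent.H23Gor

attribute [local instance 10000] H10Coh.hasSheafifyAb H10Coh.hasWeakSheafifyAb H10Coh.hasExtAb H10Coh.enoughInjAb

open Groth.Agent.H17.GorCurve (overJ degJ degW deltaJ IsDualizing isPure_support idl_support degW_eq_deg)

variable {k : Type u} [Field k] [IsAlgClosed k] {X : Scheme.{u}} [X.Over (Spec (CommRingCat.of k))]
  [IsProper (X ↘ Spec (CommRingCat.of k))]

/-- Numbers of functions on finitely many reduced points lying on a closed set. -/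
theorem finrank_points_inter [IsReduced X] (D : Set X) (hDcl : IsClosed D) (hDfin : D.Finite) (W : Closeds X) :
    Module.finrank k (Coh.HH X (ClSub.quotMod (idl (⟨D, hDcl⟩ : Closeds X) ⊔ idl W)) 0) = (D ∩ (W : Set X)).ncard := by
  let A := idl (⟨D, hDcl⟩ : Closeds X)
  let B := A ⊔ idl W
  have hA : (A.support : Set X) = D := Scheme.IdealSheafData.coe_support_vanishingIdeal _
  have hB : (B.support : Set X) = D ∩ (W : Set X) := by
    rw [Scheme.IdealSheafData.support_sup, Closeds.coe_inf, hA, Scheme.IdealSheafData.coe_support_vanishingIdeal]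
  haveI := hDfin.to_subtype
  haveI : Finite A.subscheme :=
    Finite.of_equiv _ ((Equiv.ofInjective _ A.subschemeι.isClosedEmbedding.injective).trans
      (Equiv.setCongr (A.range_subschemeι.trans hA))).symm
  haveI : IsReduced A.subscheme := H17.isReduced_vanishingIdeal_subscheme _
  haveI : LocallyQuasiFinite (strJ k A) :=
    locallyQuasiFinite_iff_finite_preimage_singleton.2 fun _ => Set.toFinite _
  haveI : IsFinite (strJ k A) :=
    (IsFinite.iff_isProper_and_locallyQuasiFinite (strJ k A)).2 ⟨inferInstance, inferInstance⟩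
  haveI : IsAffine A.subscheme := isAffine_of_isAffineHom (strJ k A)
  let j := Scheme.IdealSheafData.inclusion (le_sup_left : A ≤ B)
  have hj : j ≫ A.subschemeι = B.subschemeι := Scheme.IdealSheafData.inclusion_subschemeι _
  haveI : IsClosedImmersion (j ≫ A.subschemeι) := by rw [hj]; infer_instance
  haveI : IsClosedImmersion j := IsClosedImmersion.of_comp j A.subschemeι
  haveI : IsAffine B.subscheme := isAffine_of_isAffineHom j
  letI := H22Alg.GlobalFunctions.algΓ (strJ k A)
  haveI : Module.Finite k Γ(A.subscheme, ⊤) := finite_gamma A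
  haveI : IsArtinianRing Γ(A.subscheme, ⊤) := IsArtinianRing.of_finite k _
  haveI := IsArtinianRing.isSemisimpleRing_of_isReduced Γ(A.subscheme, ⊤)
  have hsurj : Function.Surjective j.appTop.hom := (IsClosedImmersion.isAffine_surjective_of_isAffine j).2
  haveI : IsSemisimpleRing Γ(B.subscheme, ⊤) := RingHom.isSemisimpleRing_of_surjective j.appTop.hom hsurj
  haveI : _root_.IsReduced Γ(B.subscheme, ⊤) := inferInstance
  haveI : IsReduced B.subscheme := isReduced_of_isAffine_isReduced B.subscheme
  letI := overJ k B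
  haveI : IsProper (B.subscheme ↘ Spec (CommRingCat.of k)) := inferInstanceAs (IsProper (strJ k B))
  let e : B.subscheme ≃ ↥(D ∩ (W : Set X)) :=
    (Equiv.ofInjective _ B.subschemeι.isClosedEmbedding.injective).trans
      (Equiv.setCongr (B.range_subschemeι.trans hB))
  haveI := (hDfin.inter_of_left (W : Set X)).to_subtype
  haveI : Finite B.subscheme := Finite.of_equiv _ e.symm
  rw [finrank_quotMod k B 0, H27HW.finrank_h0_eq_natCard k B.subscheme, Nat.card_congr e, Nat.card_coe_set_eq]

variable [IsReduced X] [ConnectedSpace X]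

/-- The degree of `O(D)` on a subcurve is the number of points of `D` on it. -/
theorem degJ_points (hdim : topologicalKrullDim X = 1) {D : Set X} (hDcl : IsClosed D) (hDfin : D.Finite)
    {N : X.Modules} (hN : ClSub.IsInverseOf N (ClSub.idealMod (idl (⟨D, hDcl⟩ : Closeds X))))
    (J : X.IdealSheafData) [IsReduced J.subscheme] [ConnectedSpace J.subscheme]
    (hJ : topologicalKrullDim J.subscheme = 1) : degJ k J N = ((D ∩ (J.support : Set X)).ncard : ℤ) := by
  haveI := H28Int.isNoetherian k (X := X)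
  obtain ⟨e⟩ := hN
  have hNi : PicF.IsInvertible N := H17.InvertibleTensor.isInvertible_of_tensor_iso _ _ e
  obtain ⟨W, rfl, hW⟩ : ∃ W : Closeds X, J = idl W ∧ IsPure W :=
    ⟨_, idl_support J, isPure_support (k := k) hdim.le J hJ⟩
  have hpt : ∀ η : X, ¬ IsClosed ({η} : Set X) → η ∉ (idl (⟨D, hDcl⟩ : Closeds X)).support := fun η hη hm => by
    rw [← SetLike.mem_coe, Scheme.IdealSheafData.coe_support_vanishingIdeal] at hm
    have hcl : closure ({η} : Set X) ⊆ D := closure_minimal (Set.singleton_subset_iff.2 hm) hDcl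
    refine hη ?_
    haveI : JacobsonSpace X := LocallyOfFiniteType.jacobsonSpace (X ↘ Spec (CommRingCat.of k))
    by_contra hnc
    obtain ⟨z, hz, hne⟩ : ∃ z, η ⤳ z ∧ z ≠ η := by
      by_contra hc
      push Not at hc
      exact hnc (closure_subset_iff_isClosed.1 fun z hz => hc z (specializes_iff_mem_closure.2 hz))
    have hf : (closure ({η} : Set X)).Finite := hDfin.subset hcl
    have h1 : closure ({η} : Set X) ⊆ closure (closure {η} ∩ closedPoints X) :=
      (JacobsonSpace.closure_inter_closedPoints isClosed_closure).ge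
    have h2 : IsClosed (closure ({η} : Set X) ∩ closedPoints X) := by
      rw [← Set.biUnion_of_singleton (closure ({η} : Set X) ∩ closedPoints X)]
      exact (hf.inter_of_left _).isClosed_biUnion fun z hz => mem_closedPoints_iff.1 hz.2
    have h3 := h1 (subset_closure rfl)
    rw [h2.closure_eq] at h3
    exact hnc (mem_closedPoints_iff.1 h3.2)
  rw [show degJ k (idl W) N = degW k W N from (degW_eq_deg hNi W).symm,
    degW_inverse hdim.le _ hpt hNi e hW, finrank_points_inter D hDcl hDfin W,
    Scheme.IdealSheafData.coe_support_vanishingIdeal]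

/-- The numbers of `ω(D)` on a connected subcurve. -/
theorem degJ_twist (hdim : topologicalKrullDim X = 1) {ω : X.Modules} (hω : IsDualizing k ω) {D : Set X}
    (hDcl : IsClosed D) (hDfin : D.Finite) {N : X.Modules}
    (hN : ClSub.IsInverseOf N (ClSub.idealMod (idl (⟨D, hDcl⟩ : Closeds X))))
    {M : X.Modules} (e : M ≅ CohB1.tensorMod ω N) (J : X.IdealSheafData) [IsReduced J.subscheme]
    [ConnectedSpace J.subscheme] (hJ : topologicalKrullDim J.subscheme = 1) :
    degJ k J M = 2 * (@Curv2.genus k _ J.subscheme (overJ k J) : ℤ) - 2 + deltaJ k J +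
      ((D ∩ (J.support : Set X)).ncard : ℤ) := by
  obtain ⟨eN⟩ := hN
  have hNi : PicF.IsInvertible N := H17.InvertibleTensor.isInvertible_of_tensor_iso _ _ eN
  rw [H17.GorCurve.degJ_congr J e, H17.GorCurve.degJ_tensor hdim.le J hω.1 hNi,
    degJ_points hdim hDcl hDfin ⟨eN⟩ J hJ, (H17.GorCurve.numerics hdim hω hω.1 J hJ).1]

/-- The degree of `ω(D)`. -/
theorem deg_twist (hdim : topologicalKrullDim X = 1) {ω : X.Modules} (hω : IsDualizing k ω) {D : Set X}
    (hDcl : IsClosed D) (hDfin : D.Finite) {N : X.Modules}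
    (hN : ClSub.IsInverseOf N (ClSub.idealMod (idl (⟨D, hDcl⟩ : Closeds X))))
    {M : X.Modules} (e : M ≅ CohB1.tensorMod ω N) :
    Curv2.deg k X M 1 = 2 * (Curv2.genus k X : ℤ) - 2 + (D.ncard : ℤ) := by
  obtain ⟨h1, h2, h3⟩ := H17.GorCurve.subcurve_bot (X := X) hdim
  haveI := h1
  haveI := h2
  have hMi : PicF.IsInvertible M :=
    H11Tilde.isInvertible_of_iso e.symm (H11Ample.isInvertible_tensor hω.1 (H17.InvertibleTensor.isInvertible_of_tensor_iso _ _ hN.some))
  have hd := degJ_twist hdim hω hDcl hDfin hN e (⊥ : X.IdealSheafData) h3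
  rw [H17.GorCurve.degJ_bot hMi] at hd
  have hn := (H17.GorCurve.numerics hdim hω hω.1 (⊥ : X.IdealSheafData) h3).1
  rw [H17.GorCurve.degJ_bot hω.1, H17.GorCurve.deg_omega hdim hω, H29RR.euler_eq_sub (k := k) hdim.le,
    H29RR.finrank_h0_structure k X] at hn
  have : Module.finrank k (Coh.HH X (Coh.structureModule X) 1) = Curv2.genus k X := rfl
  have hs : ((⊥ : X.IdealSheafData).support : Set X) = Set.univ := by simp
  rw [hs, Set.inter_univ] at hd
  omega

/-- Powers of `ω(D)` of exponent at least two are nonspecial and globally generated, when `ω(D)` is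
nonnegative on subcurves and of positive degree. -/
theorem pow_twist_bounds (hdim : topologicalKrullDim X = 1) {ω : X.Modules} (hω : IsDualizing k ω) {D : Set X}
    (hDcl : IsClosed D) (hDfin : D.Finite) {N : X.Modules}
    (hN : ClSub.IsInverseOf N (ClSub.idealMod (idl (⟨D, hDcl⟩ : Closeds X))))
    {M : X.Modules} (e : M ≅ CohB1.tensorMod ω N) (hpos : 0 < 2 * (Curv2.genus k X : ℤ) - 2 + (D.ncard : ℤ))
    (hnn : ∀ J : X.IdealSheafData, IsReduced J.subscheme → ConnectedSpace J.subscheme →
      topologicalKrullDim J.subscheme = 1 → 0 ≤ degJ k J M)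
    {m : ℕ} (hm : 2 ≤ m) :
    Subsingleton (Coh.HH X (CohB1.tensorPow M m) 1) ∧ Curv2.IsGloballyGenerated (CohB1.tensorPow M m) := by
  have hMi : PicF.IsInvertible M :=
    H11Tilde.isInvertible_of_iso e.symm (H11Ample.isInvertible_tensor hω.1 (H17.InvertibleTensor.isInvertible_of_tensor_iso _ _ hN.some))
  have hP : PicF.IsInvertible (CohB1.tensorPow M m) := H11Ample.isInvertible_tensorPow hMi m
  have key : ∀ J : X.IdealSheafData, IsReduced J.subscheme → ConnectedSpace J.subscheme →
      topologicalKrullDim J.subscheme = 1 →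
      2 * (@Curv2.genus k _ J.subscheme (overJ k J) : ℤ) ≤ degJ k J (CohB1.tensorPow M m) ∧
        -2 * @Curv2.euler k _ J.subscheme (overJ k J) (Coh.structureModule J.subscheme) <
          degJ k J (CohB1.tensorPow M m) := fun J hJr hJc hJ => by
    haveI := hJr
    haveI := hJc
    have hd := degJ_twist hdim hω hDcl hDfin hN e J hJ
    have h0 := hnn J hJr hJc hJ
    rw [H17.GorCurve.degJ_tensorPow hdim.le J hMi m, H17.GorCurve.euler_subcurve (k := k) hdim.le J]
    have hm' : 2 * degJ k J M ≤ (m : ℤ) * degJ k J M := mul_le_mul_of_nonneg_right (by exact_mod_cast hm) h0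
    have hc' : 0 < degJ k J M ∧ 2 * (@Curv2.genus k _ J.subscheme (overJ k J) : ℤ) - 2 ≤ degJ k J M ∨
        2 * (@Curv2.genus k _ J.subscheme (overJ k J) : ℤ) - 1 ≤ degJ k J M := by
      by_cases hb : J = ⊥
      · subst hb
        have hge : (0 : ℤ) ≤ deltaJ k (⊥ : X.IdealSheafData) := Int.natCast_nonneg _
        have hd0 : 0 < degJ k (⊥ : X.IdealSheafData) M := by
          rw [H17.GorCurve.degJ_bot hMi, deg_twist hdim hω hDcl hDfin hN e]
          exact hpos
        exact Or.inl ⟨hd0, by omega⟩
      · have := H17.GorCurve.deltaJ_pos (k := k) hdim J hb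
        exact Or.inr (by omega)
    omega
  exact ⟨H17.GorCurve.subsingleton_h1_of_degJ hdim hP fun J a b c => (key J a b c).2,
    isGloballyGenerated_of_deg_ge_subcurves (k := k) hdim hP fun J a b c => (key J a b c).1⟩

/-- Semistability gives nonnegativity of `ω(D)` on all subcurves. -/
theorem degJ_twist_nonneg (hdim : topologicalKrullDim X = 1) (hX : Curv2.AtWorstNodal k X) {ω : X.Modules}
    (hω : IsDualizing k ω) (hequi : ∀ Z ∈ irreducibleComponents (X : Type u), topologicalKrullDim Z = 1)
    {D : Set X} (hDcl : IsClosed D) (hDfin : D.Finite) {N : X.Modules}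
    (hN : ClSub.IsInverseOf N (ClSub.idealMod (idl (⟨D, hDcl⟩ : Closeds X))))
    {M : X.Modules} (e : M ≅ CohB1.tensorMod ω N) (hpos : 0 < 2 * (Curv2.genus k X : ℤ) - 2 + (D.ncard : ℤ))
    (hss : ∀ (E : Set X) (hE : E ∈ irreducibleComponents (X : Type u)),
      Subsingleton (Coh.HH (idl (⟨E, isClosed_of_mem_irreducibleComponents E hE⟩ : Closeds X)).subscheme
        (Coh.structureModule (idl (⟨E, isClosed_of_mem_irreducibleComponents E hE⟩ : Closeds X)).subscheme) 1) →
        2 ≤ (E ∩ closure Eᶜ).ncard + (D ∩ E).ncard)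
    (J : X.IdealSheafData) [IsReduced J.subscheme] : 0 ≤ degJ k J M := by
  haveI := H28Int.isNoetherian k (X := X)
  have hMi : PicF.IsInvertible M :=
    H11Tilde.isInvertible_of_iso e.symm (H11Ample.isInvertible_tensor hω.1 (H17.InvertibleTensor.isInvertible_of_tensor_iso _ _ hN.some))
  refine degJ_nonneg hdim.le hMi J fun η _ hn => ?_
  have hE : closure ({η} : Set X) ∈ irreducibleComponents (X : Type u) :=
    mem_genericPoints_of_not_isClosed hdim.le hn
  let W : Closeds X := ⟨closure {η}, isClosed_closure⟩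
  obtain ⟨hr, hc, hd⟩ := component_subcurve (k := k) hequi _ hE
  haveI := hr
  haveI := hc
  by_cases hu : closure ({η} : Set X) = Set.univ
  · have hb : idl W = ⊥ := by
      rw [show W = ⊤ from Closeds.ext hu, idl, Scheme.IdealSheafData.vanishingIdeal_top, Scheme.nilradical_eq_bot]
    show 0 ≤ degJ k (idl W) M
    rw [hb, H17.GorCurve.degJ_bot hMi, deg_twist hdim hω hDcl hDfin hN e]
    exact hpos.le
  have hne := irreducibleComponent_ne_bot _ hE hu
  have hδpos := H17.GorCurve.deltaJ_pos (k := k) hdim _ hne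
  rw [degJ_twist hdim hω hDcl hDfin hN e _ hd, Scheme.IdealSheafData.coe_support_vanishingIdeal]
  rcases Nat.eq_zero_or_pos (@Curv2.genus k _ (idl W).subscheme (overJ k (idl W))) with hg | hg
  swap
  · have : (0 : ℤ) ≤ ((D ∩ closure ({η} : Set X)).ncard : ℤ) := Int.natCast_nonneg _
    simp only [W] at hg
    show (0 : ℤ) ≤ _ + ((D ∩ closure ({η} : Set X)).ncard : ℤ)
    omega
  have hs : Subsingleton (Coh.HH (idl W).subscheme (Coh.structureModule (idl W).subscheme) 1) := by
    letI := overJ k (idl W)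
    haveI : IsProper ((idl W).subscheme ↘ Spec (CommRingCat.of k)) := inferInstanceAs (IsProper (strJ k (idl W)))
    haveI := H28Int.isNoetherian k (X := (idl W).subscheme)
    haveI := H10Coh.finite_HH_proper k (idl W).subscheme _ (H10Coh.isCoh_structureModule' (idl W).subscheme) 1
    exact (Module.finrank_zero_iff (R := k)).1 hg
  have h2 := hss _ hE hs
  have hδ : deltaJ k (idl W) = ((closure ({η} : Set X) ∩ closure (closure ({η} : Set X))ᶜ).ncard : ℤ) := by
    rw [H17.GorCurve.deltaJ_idl W, delta_eq_natCard k hdim.le (isPure_top hdim) hX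
      (H17.GorCurve.isPure_closure hn), Nat.card_coe_set_eq]
    rfl
  simp only [W] at hg hδ
  show (0 : ℤ) ≤ _ + ((D ∩ closure ({η} : Set X)).ncard : ℤ)
  omega

omit [IsReduced X] in
/-- The standing facts about a connected nodal curve. -/
theorem pointed_setup (hdim : topologicalKrullDim X = 1) (hX : Curv2.AtWorstNodal k X)
    [DCoh.HasRpush (X ↘ Spec (CommRingCat.of k))] (h : DCoh.RpushPreservesQCoh (X ↘ Spec (CommRingCat.of k)))
    [DCoh.HasShriek (X ↘ Spec (CommRingCat.of k)) h] (OY : DCoh.DQCoh (Spec (CommRingCat.of k)))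
    (hOY : Nonempty (OY.obj ≅ DCoh.inD (Spec (CommRingCat.of k)) (Coh.structureModule (Spec (CommRingCat.of k))))) :
    IsReduced X ∧ (∀ Z ∈ irreducibleComponents (X : Type u), topologicalKrullDim Z = 1) ∧
      IsDualizing k (DCoh.dualizingMod (X ↘ Spec (CommRingCat.of k)) h OY 1) := by
  haveI := H11Node.isReduced_of_atWorstNodal hX
  obtain ⟨hr, -, hequi, hω⟩ := nodal_setup k X hdim (H29RR.finrank_h0_structure k X) hX h OY hOY
  exact ⟨hr, hequi, hω⟩

/-- Powers of an ample `ω(D)` of exponent at least two are nonspecial. -/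
theorem stable_pow (hdim : topologicalKrullDim X = 1) {ω : X.Modules} (hω : IsDualizing k ω) {D : Set X}
    (hDcl : IsClosed D) (hDfin : D.Finite) {N : X.Modules}
    (hN : ClSub.IsInverseOf N (ClSub.idealMod (idl (⟨D, hDcl⟩ : Closeds X))))
    (hamp : CohB1.IsAmple (CohB1.tensorMod ω N)) {m : ℕ} (hm : 2 ≤ m) :
    Subsingleton (Coh.HH X (CohB1.tensorPow (CohB1.tensorMod ω N) m) 1) ∧
      (Module.finrank k (Coh.HH X (CohB1.tensorPow (CohB1.tensorMod ω N) m) 0) : ℤ) =
        (m : ℤ) * (2 * (Curv2.genus k X : ℤ) - 2 + (D.ncard : ℤ)) + 1 - (Curv2.genus k X : ℤ) := by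
  haveI := H28Int.isNoetherian k (X := X)
  have hMi := H11Ample.isInvertible_of_isAmple hamp
  have hdeg := deg_twist hdim hω hDcl hDfin hN (Iso.refl (CohB1.tensorMod ω N))
  have hnn := fun (J : X.IdealSheafData) (hr : IsReduced J.subscheme) (hc : ConnectedSpace J.subscheme) hJ =>
    (@H17.GorCurve.degJ_pos_of_ample k _ X _ _ _ hdim.le _ hamp J hr hc hJ).le
  have hpos : 0 < Curv2.deg k X (CohB1.tensorMod ω N) 1 := by
    obtain ⟨h1, h2, h3⟩ := H17.GorCurve.subcurve_bot (X := X) hdim
    haveI := h1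
    haveI := h2
    rw [← H17.GorCurve.degJ_bot hMi]
    exact H17.GorCurve.degJ_pos_of_ample hdim.le hamp _ h3
  obtain ⟨hsub, -⟩ := pow_twist_bounds hdim hω hDcl hDfin hN (Iso.refl _) (hdeg ▸ hpos) hnn hm
  refine ⟨hsub, ?_⟩
  have h1 := H17.GorCurve.degX_tensorPow (k := k) hdim.le hMi m
  rw [hdeg, H29RR.deg_def, H29RR.euler_eq_sub (k := k) hdim.le, H29RR.euler_eq_sub (k := k) hdim.le,
    H29RR.finrank_h0_structure k X] at h1
  haveI := hsub
  rw [Module.finrank_zero_of_subsingleton (R := k) (M := Coh.HH X (CohB1.tensorPow (CohB1.tensorMod ω N) m) 1)] at h1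
  have : Module.finrank k (Coh.HH X (Coh.structureModule X) 1) = Curv2.genus k X := rfl
  omega

/-- Semistable pointed curves: powers of `ω(p₁ + ⋯ + pₙ)` are nonspecial and globally generated. -/
theorem semistable_pow (hdim : topologicalKrullDim X = 1) (hX : Curv2.AtWorstNodal k X) {ω : X.Modules}
    (hω : IsDualizing k ω) (hequi : ∀ Z ∈ irreducibleComponents (X : Type u), topologicalKrullDim Z = 1)
    {n : ℕ} {p : Fin n → X} (hpinj : Function.Injective p) (hpcl : ∀ i, IsClosed ({p i} : Set X))
    (hss : ∀ (E : Set X) (hE : E ∈ irreducibleComponents (X : Type u)),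
      Subsingleton (Coh.HH (idl (⟨E, isClosed_of_mem_irreducibleComponents E hE⟩ : Closeds X)).subscheme
        (Coh.structureModule (idl (⟨E, isClosed_of_mem_irreducibleComponents E hE⟩ : Closeds X)).subscheme) 1) →
        2 ≤ (E ∩ closure Eᶜ).ncard + (p ⁻¹' E).ncard)
    (hgn : 0 < 2 * (Curv2.genus k X : ℤ) - 2 + n) {N : X.Modules}
    (hN : ClSub.IsInverseOf N (ClSub.idealMod (idl (⟨⋃ i, ({p i} : Set X), isClosed_iUnion_of_finite hpcl⟩ : Closeds X))))
    {M : X.Modules} (e : M ≅ CohB1.tensorMod ω N) {m : ℕ} (hm : 2 ≤ m) :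
    Subsingleton (Coh.HH X (CohB1.tensorPow M m) 1) ∧ Curv2.IsGloballyGenerated (CohB1.tensorPow M m) := by
  have hU : (⋃ i, ({p i} : Set X)) = Set.range p := Set.iUnion_singleton_eq_range p
  have hfin : (⋃ i, ({p i} : Set X)).Finite := hU ▸ Set.finite_range p
  have hcard : (⋃ i, ({p i} : Set X)).ncard = n := by
    rw [hU, Set.ncard_range_of_injective hpinj, Nat.card_eq_fintype_card, Fintype.card_fin]
  have hpos : 0 < 2 * (Curv2.genus k X : ℤ) - 2 + ((⋃ i, ({p i} : Set X)).ncard : ℤ) := by rw [hcard]; exact hgn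
  refine pow_twist_bounds hdim hω _ hfin hN e hpos (fun J hr _ _ => ?_) hm
  haveI := hr
  refine degJ_twist_nonneg hdim hX hω hequi _ hfin hN e hpos (fun E hE h1 => ?_) J
  have hi : (⋃ i, ({p i} : Set X)) ∩ E = p '' (p ⁻¹' E) := by rw [hU, Set.image_preimage_eq_range_inter]
  rw [hi, Set.ncard_image_of_injective _ hpinj]
  exact hss E hE h1

end Groth.Agent.H23Gor
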