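import Groth.Agent.H23Gor.Trees
import Groth.Agent.H4RepDual.Field
import Groth.Prelude.Def_DualGr

/-!
# Criteria for nodal and pointed curves
-/

set_option autoImplicit false
set_option linter.style.haveILetI false
set_option linter.unusedSectionVars false
set_option backward.isDefEq.respectTransparency false
set_option synthInstance.maxHeartbeats 400000
set_option maxHeartbeats 1000000

universe u

open CategoryTheory CategoryTheory.Limits AlgebraicGeometry TopologicalSpace Opposite
open Groth.Agent.H29RR Groth.Agent.H29CurveDual Groth.Agent.H29CurveDual.Subcurve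

attribute [local instance] HasDerivedCategory.standard

namespace Groth.Agent.H23Gor

attribute [local instance 10000] H10Coh.hasSheafifyAb H10Coh.hasWeakSheafifyAb H10Coh.hasExtAb H10Coh.enoughInjAb
attribute [local irreducible] Curv2.euler

open Groth.Agent.H17.GorCurve (overJ degJ degW delta deltaJ IsDualizing degW_eq_deg idl_support)

variable {k : Type u} [Field k] {X : Scheme.{u}} [X.Over (Spec (CommRingCat.of k))]
  [IsProper (X ↘ Spec (CommRingCat.of k))] [IsReduced X] [ConnectedSpace X]

/-- The genus of the whole curve as a subcurve. -/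
theorem genus_bot : @Curv2.genus k _ (⊥ : X.IdealSheafData).subscheme (overJ k ⊥) = Curv2.genus k X := by
  haveI := H28Int.isNoetherian k (X := X)
  obtain ⟨W, hW, h0⟩ : ∃ W : Closeds X, W = ⊤ ∧ (⊥ : X.IdealSheafData) = idl W := ⟨⊤, rfl, by
    rw [idl, Scheme.IdealSheafData.vanishingIdeal_top, Scheme.nilradical_eq_bot]⟩
  rw [h0]
  refine (finrank_quotMod k (idl W) 1).symm.trans ?_
  subst hW
  haveI := isIso_proj_top (X := X) (Coh.structureModule X)
  exact (hhIso (k := k) (asIso (proj (Coh.structureModule X) (⊤ : Closeds X)) ≪≫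
    H10Coh.Tw.rightUnitIso (ClSub.quotMod (idl (⊤ : Closeds X)))) 1).finrank_eq.symm

/-- In genus one the dualizing module of a curve without rational tails is trivial; in higher genus its
powers are globally generated. -/
theorem dualizing_noTail (hdim : topologicalKrullDim X = 1)
    (h0 : Module.finrank k (Coh.HH X (Coh.structureModule X) 0) = 1) {ω : X.Modules} (hω : IsDualizing k ω)
    (hequi : ∀ Z ∈ irreducibleComponents (X : Type u), topologicalKrullDim Z = 1)
    (hnt : ∀ (C : Set X) (hC : C ∈ irreducibleComponents (X : Type u)), ¬ Curv2.IsRationalTail X C hC) :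
    (Curv2.genus k X = 1 → Nonempty (ω ≅ Coh.structureModule X)) ∧
      (2 ≤ Curv2.genus k X → ∀ m : ℕ, 2 ≤ m → Curv2.IsGloballyGenerated (CohB1.tensorPow ω m)) := by
  haveI := H28Int.isNoetherian k (X := X)
  have hχ : Curv2.euler k X (Coh.structureModule X) = 1 - (Curv2.genus k X : ℤ) := by
    rw [H29RR.euler_eq_sub (k := k) hdim.le, h0]
    rfl
  have hdeg := H17.GorCurve.deg_omega hdim hω
  rw [hχ] at hdeg
  refine ⟨fun hg => ?_, fun hg m hm => ?_⟩
  · obtain ⟨hω₁, t, ht⟩ := id hω
    have hd1 : Module.finrank k (Coh.HH X ω 0) = 1 := by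
      rw [← finrank_hom_structure k ω, ← H17.GorCurve.finrank_h1 t ht (H10Coh.isCoh_structureModule' X)]
      exact hg
    haveI : Nontrivial (Coh.HH X ω 0) := Module.nontrivial_of_finrank_pos (R := k) (by omega)
    obtain ⟨v, hv⟩ := exists_ne (0 : Coh.HH X ω 0)
    haveI := iso_of_deg_zero (k := k) hdim hω₁ (by omega) (fun η hη => ?_) _ (mulH_ne_zero_arg hv)
    · exact ⟨(asIso (H11Tilde.homOfGlobal ω (sec ω v))).symm⟩
    have hC : closure ({η} : Set X) ∈ irreducibleComponents (X : Type u) :=
      mem_genericPoints_of_not_isClosed hdim.le hη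
    refine le_of_le_of_eq ?_ (degW_eq_deg hω₁ _).symm
    by_cases hu : closure ({η} : Set X) = Set.univ
    · show 0 ≤ degJ k (idl (⟨closure {η}, isClosed_closure⟩ : Closeds X)) ω
      rw [show (⟨closure {η}, isClosed_closure⟩ : Closeds X) = ⊤ from Closeds.ext hu, idl,
        Scheme.IdealSheafData.vanishingIdeal_top, Scheme.nilradical_eq_bot, H17.GorCurve.degJ_bot hω₁]
      omega
    · exact (component_bounds hdim hω hequi _ hC (irreducibleComponent_ne_bot _ hC hu) (hnt _ hC)).1
  · refine isGloballyGenerated_of_deg_ge_subcurves (k := k) hdim (H11Ample.isInvertible_tensorPow hω.1 m)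
      fun J hJr hJc hJ => ?_
    haveI := hJr
    haveI := hJc
    show 2 * (@Curv2.genus k _ J.subscheme (overJ k J) : ℤ) ≤ degJ k J (CohB1.tensorPow ω m)
    rw [H17.GorCurve.degJ_tensorPow hdim.le J hω.1 m]
    by_cases hb : J = ⊥
    · subst hb
      rw [genus_bot, H17.GorCurve.degJ_bot hω.1]
      have h2 : 2 * Curv2.deg k X ω 1 ≤ (m : ℤ) * Curv2.deg k X ω 1 :=
        mul_le_mul_of_nonneg_right (by exact_mod_cast hm) (by omega)
      omega
    · have h1 : (@Curv2.genus k _ J.subscheme (overJ k J) : ℤ) ≤ degJ k J ω := by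
        have := h1_le_degJ hdim hω hequi hnt J hJ hb
        rwa [finrank_quotMod k J 1] at this
      have h2 : 2 * degJ k J ω ≤ (m : ℤ) * degJ k J ω :=
        mul_le_mul_of_nonneg_right (by exact_mod_cast hm) (le_trans (Int.natCast_nonneg _) h1)
      omega

include k in
/-- The components of a connected curve are the closures of its nonclosed points. -/
theorem exists_nonclosed_generic
    (hequi : ∀ Z ∈ irreducibleComponents (X : Type u), topologicalKrullDim Z = 1)
    {E : Set X} (hE : E ∈ irreducibleComponents (X : Type u)) :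
    ∃ η : X, ¬ IsClosed ({η} : Set X) ∧ closure ({η} : Set X) = E := by
  have hη : closure ({hE.1.genericPoint} : Set X) = E :=
    hE.1.closure_genericPoint (isClosed_of_mem_irreducibleComponents E hE)
  refine ⟨_, fun hc => ?_, hη⟩
  have h1 := hequi E hE
  rw [← hη, hc.closure_eq] at h1
  have h0 : topologicalKrullDim ({hE.1.genericPoint} : Set X) ≤ 0 := topologicalKrullDim_zero_of_discreteTopology _
  rw [h1] at h0
  exact absurd h0 (by simp)

variable [IsAlgClosed k]

/-- Genus zero: vanishing of sections from degree bounds by the numbers of meeting points. -/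
theorem tree_vanishing (hdim : topologicalKrullDim X = 1) (hX : Curv2.AtWorstNodal k X)
    (hg : Subsingleton (Coh.HH X (Coh.structureModule X) 1)) {ω : X.Modules} (hω : IsDualizing k ω)
    (L : X.Modules) (hL : PicF.IsInvertible L)
    (E₀ : Set X) (hE₀ : E₀ ∈ irreducibleComponents (X : Type u))
    (h₀ : degJ k (idl (⟨E₀, isClosed_of_mem_irreducibleComponents E₀ hE₀⟩ : Closeds X)) L ≤
      ((E₀ ∩ closure E₀ᶜ).ncard : ℤ) - 1)
    (hE : ∀ (E : Set X) (hE : E ∈ irreducibleComponents (X : Type u)), E ≠ E₀ →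
      degJ k (idl (⟨E, isClosed_of_mem_irreducibleComponents E hE⟩ : Closeds X)) L ≤
        ((E ∩ closure Eᶜ).ncard : ℤ) - 2) :
    Subsingleton (Coh.HH X L 0) := by
  haveI := H28Int.isNoetherian k (X := X)
  refine subsingleton_h0_of_bounds (k := k) hdim hg hω hL E₀ fun η hη => ?_
  have hC : closure ({η} : Set X) ∈ irreducibleComponents (X : Type u) :=
    mem_genericPoints_of_not_isClosed hdim.le hη
  rw [degW_omega_component (k := k) hdim hX hg hω hη, degW_eq_deg hL]
  by_cases he : closure ({η} : Set X) = E₀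
  · subst he
    rw [if_pos rfl]
    refine h₀.trans ?_
    omega
  · rw [if_neg he, add_zero]
    exact hE _ hC he

/-- Trees with at most three nodes have no bicanonical sections. -/
theorem tree_three_nodes (hdim : topologicalKrullDim X = 1) (hX : Curv2.AtWorstNodal k X)
    (hg : Subsingleton (Coh.HH X (Coh.structureModule X) 1)) {ω : X.Modules} (hω : IsDualizing k ω)
    (h3 : {x : X | Curv2.IsNode k X x}.encard ≤ 3) :
    Subsingleton (Coh.HH X (CohB1.tensorMod ω ω) 0) := by
  classical
  haveI := H28Int.isNoetherian k (X := X)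
  have hfin : {x : X | Curv2.IsNode k X x}.Finite :=
    Set.finite_of_encard_le_coe (k := 3) (by exact_mod_cast h3)
  have hN : {x : X | Curv2.IsNode k X x}.ncard ≤ 3 := by
    rw [← Nat.cast_le (α := ℕ∞), hfin.cast_ncard_eq]
    exact_mod_cast h3
  have hp : IsPure (⊤ : Closeds X) := isPure_top hdim
  let I : X → Set X := fun η => closure ({η} : Set X) ∩ closure (closure ({η} : Set X))ᶜ
  have hsub : ∀ η : X, ¬ IsClosed ({η} : Set X) → I η ⊆ {x : X | Curv2.IsNode k X x} := fun η hη x hx =>
    isNode_of_mem_inter hdim hX (H17.GorCurve.isPure_closure hη) (W := ⟨closure {η}, isClosed_closure⟩) hx.1 hx.2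
  have hle : ∀ η : X, ¬ IsClosed ({η} : Set X) → (I η).ncard ≤ 3 := fun η hη =>
    (Set.ncard_le_ncard (hsub η hη) hfin).trans hN
  have huniq : ∀ η η' : X, ¬ IsClosed ({η} : Set X) → ¬ IsClosed ({η'} : Set X) →
      (I η).ncard = 3 → (I η').ncard = 3 → η = η' := by
    intro η η' hη hη' h h'
    by_contra hne
    let W : Closeds X := ⟨closure {η, η'}, isClosed_closure⟩
    have hS : ∀ z ∈ ({η, η'} : Set X), ¬ IsClosed ({z} : Set X) := by
      rintro z (rfl | rfl) <;> assumption
    have hW : IsPure W := closure_mono fun z hz => ⟨subset_closure hz, hS z hz⟩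
    have hT : ∀ z, z ∈ ({η, η'} : Finset X) ↔ z ∈ W ∧ ¬ IsClosed ({z} : Set X) := fun z => by
      rw [← Finset.mem_coe, Finset.coe_insert, Finset.coe_singleton]
      exact ⟨fun hz => ⟨subset_closure hz, hS z hz⟩, fun hz => mem_of_mem_closure_nonclosed hdim.le hS hz.2 hz.1⟩
    have hdeg := degW_eq_sum (k := k) hdim.le hω.1 W {η, η'} hT
    rw [Finset.sum_pair hne, degW_omega_component (k := k) hdim hX hg hω hη,
      degW_omega_component (k := k) hdim hX hg hω hη'] at hdeg
    obtain ⟨hω₁, t, ht⟩ := id hω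
    have hd := H17.GorCurve.degW_omega_delta t ht hω₁ hdim.le hp hW
    have hδ := delta_eq_natCard k hdim.le hp hX hW
    have hsubW : (W : Set X) ∩ (H17.GorCurve.compl W : Set X) ⊆ {x : X | Curv2.IsNode k X x} := fun x hx =>
      isNode_of_mem_inter hdim hX hW hx.1 hx.2
    have hcard := (Set.ncard_le_ncard hsubW hfin).trans hN
    rw [Nat.card_coe_set_eq] at hδ
    have hχ := euler_subcurve_pos (k := k) hdim hg (W := W) ⟨η, subset_closure (Or.inl rfl)⟩
    simp only [I] at h h'
    omega
  obtain ⟨η₀, hη₀, hmax⟩ : ∃ η₀ : X, ¬ IsClosed ({η₀} : Set X) ∧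
      ∀ η : X, ¬ IsClosed ({η} : Set X) → η ≠ η₀ → (I η).ncard ≤ 2 := by
    by_cases hex : ∃ η : X, ¬ IsClosed ({η} : Set X) ∧ (I η).ncard = 3
    · obtain ⟨η₀, h1, h2⟩ := hex
      refine ⟨η₀, h1, fun η hη hne => ?_⟩
      have := hle η hη
      by_contra hlt
      exact hne (huniq η η₀ hη h1 (by omega) h2)
    · obtain ⟨η₀, -, h1⟩ := H17.GorCurve.exists_nonclosed hp Set.univ_nonempty
      refine ⟨η₀, h1, fun η hη _ => ?_⟩
      have := hle η hη
      have h3' : (I η).ncard ≠ 3 := fun h => hex ⟨η, hη, h⟩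
      omega
  refine subsingleton_h0_of_bounds (k := k) hdim hg hω (H11Ample.isInvertible_tensor hω.1 hω.1)
    (closure {η₀}) fun η hη => ?_
  rw [H17.GorCurve.degW_tensor hdim.le hω.1 hω.1, degW_omega_component (k := k) hdim hX hg hω hη]
  have := hle η hη
  by_cases he : closure ({η} : Set X) = closure {η₀}
  · rw [if_pos he]
    simp only [I] at this
    omega
  · have h2 := hmax η hη fun e => he (by rw [e])
    rw [if_neg he]
    simp only [I] at h2
    omega

/-- Semistable trees are those with globally generated `ω(p₁ + ⋯ + pₙ)`. -/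
theorem semistable_iff_gg (hdim : topologicalKrullDim X = 1) (hX : Curv2.AtWorstNodal k X)
    (hg : Subsingleton (Coh.HH X (Coh.structureModule X) 1)) {ω : X.Modules} (hω : IsDualizing k ω)
    (hequi : ∀ Z ∈ irreducibleComponents (X : Type u), topologicalKrullDim Z = 1)
    {n : ℕ} {p : Fin n → X} (hpinj : Function.Injective p) (hpcl : ∀ i, IsClosed ({p i} : Set X)) (hn : 3 ≤ n)
    {N : X.Modules}
    (hN : ClSub.IsInverseOf N (ClSub.idealMod (idl (⟨⋃ i, ({p i} : Set X), isClosed_iUnion_of_finite hpcl⟩ : Closeds X))))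
    {M : X.Modules} (e : M ≅ CohB1.tensorMod ω N) :
    (∀ (E : Set X), E ∈ irreducibleComponents (X : Type u) → 2 ≤ (E ∩ closure Eᶜ).ncard + (p ⁻¹' E).ncard) ↔
      Curv2.IsGloballyGenerated M := by
  haveI := H28Int.isNoetherian k (X := X)
  haveI := hg
  have hMi : PicF.IsInvertible M := H11Tilde.isInvertible_of_iso e.symm
    (H11Ample.isInvertible_tensor hω.1 (H17.InvertibleTensor.isInvertible_of_tensor_iso _ _ hN.some))
  have hU : (⋃ i, ({p i} : Set X)) = Set.range p := Set.iUnion_singleton_eq_range p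
  have hfin : (⋃ i, ({p i} : Set X)).Finite := hU ▸ Set.finite_range p
  have hcard : (⋃ i, ({p i} : Set X)).ncard = n := by
    rw [hU, Set.ncard_range_of_injective hpinj, Nat.card_eq_fintype_card, Fintype.card_fin]
  have hgX : Curv2.genus k X = 0 := Module.finrank_zero_of_subsingleton
  have hpos : 0 < 2 * (Curv2.genus k X : ℤ) - 2 + ((⋃ i, ({p i} : Set X)).ncard : ℤ) := by
    rw [hcard, hgX]; omega
  have hi : ∀ E : Set X, ((⋃ i, ({p i} : Set X)) ∩ E).ncard = (p ⁻¹' E).ncard := fun E => by
    rw [hU, ← Set.image_preimage_eq_range_inter, Set.ncard_image_of_injective _ hpinj]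
  have hgJ : ∀ (J : X.IdealSheafData), IsReduced J.subscheme →
      @Curv2.genus k _ J.subscheme (overJ k J) = 0 := fun J hJ => by
    haveI := hJ
    refine (finrank_quotMod k J 1).symm.trans ?_
    rw [idl_support J]
    exact subcurve_genus_zero (k := k) hdim hg J.support
  constructor
  · intro hss
    refine isGloballyGenerated_of_deg_ge_subcurves (k := k) hdim hMi fun J hJr hJc hJ => ?_
    haveI := hJr
    show 2 * (@Curv2.genus k _ J.subscheme (overJ k J) : ℤ) ≤ degJ k J M
    rw [hgJ J hJr]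
    exact degJ_twist_nonneg hdim hX hω hequi _ hfin hN e hpos (fun E hE _ => by rw [hi]; exact hss E hE) J
  · intro hgg E hE
    obtain ⟨η, hη, rfl⟩ := exists_nonclosed_generic (k := k) hequi hE
    by_cases hu : closure ({η} : Set X) = Set.univ
    · have : (p ⁻¹' closure ({η} : Set X)).ncard = n := by
        rw [hu, Set.preimage_univ, Set.ncard_univ, Nat.card_eq_fintype_card, Fintype.card_fin]
      omega
    obtain ⟨hr, hc, hd⟩ := component_subcurve (k := k) hequi _ hE
    haveI := hr
    haveI := hc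
    have h := degJ_nonneg_of_gg (k := k) hdim hMi hgg hη
    rw [degJ_twist hdim hω _ hfin hN e (idl (⟨closure {η}, isClosed_closure⟩ : Closeds X)) hd,
      Scheme.IdealSheafData.coe_support_vanishingIdeal, H17.GorCurve.deltaJ_idl,
      delta_eq_natCard k hdim.le (isPure_top hdim) hX (H17.GorCurve.isPure_closure hη), Nat.card_coe_set_eq,
      hgJ _ hr] at h
    have h' : (0 : ℤ) ≤ 2 * ((0 : ℕ) : ℤ) - 2 + ((closure ({η} : Set X) ∩ closure (closure ({η} : Set X))ᶜ).ncard : ℤ) +
        (((⋃ i, ({p i} : Set X)) ∩ closure ({η} : Set X)).ncard : ℤ) := h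
    rw [hi] at h'
    omega

/-- The nonsmooth points on a subcurve and on the rest. -/
theorem mem_nonsmoothPts (hdim : topologicalKrullDim X = 1) {W : Closeds X} (hW : IsPure W) {x : X}
    (hx : x ∈ W) (hx' : x ∈ H17.GorCurve.compl W) : x ∈ DualGr.nonsmoothPts (X ↘ Spec (CommRingCat.of k)) := by
  let f := X ↘ Spec (CommRingCat.of k)
  haveI : IsNoetherianRing ↑(CommRingCat.of k) := inferInstanceAs (IsNoetherianRing k)
  haveI : LocallyOfFinitePresentation f := inferInstance
  intro hfs
  let U := f.smoothLocus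
  haveI hsm : Smooth (U.ι ≫ f) := Scheme.Hom.smoothLocus_eq_top_iff.1 (by
    rw [← Scheme.Hom.preimage_smoothLocus_eq]
    exact U.ι_preimage_self)
  haveI := H19Grp.isRegularLocalRing_stalk_of_smooth (U.ι ≫ (X ↘ Spec (CommRingCat.of k))) ⟨x, hfs⟩
  haveI := H4Depth.isDomain_of_isRegularLocalRing ((U : Scheme.{u}).presheaf.stalk ⟨x, hfs⟩)
  haveI : IsDomain (X.presheaf.stalk x) :=
    (U.stalkIso ⟨x, hfs⟩).commRingCatIsoToRingEquiv.symm.toMulEquiv.isDomain _
  exact notMem_compl_of_isDomain (k := k) hdim hW hx hx'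

/-- The stability criterion on the dual graph. -/
theorem isAmple_iff_dualGraph (hdim : topologicalKrullDim X = 1) (hX : Curv2.AtWorstNodal k X) {ω : X.Modules}
    (hω : IsDualizing k ω) (hequi : ∀ Z ∈ irreducibleComponents (X : Type u), topologicalKrullDim Z = 1)
    {D : Set X} (hDcl : IsClosed D) (hDfin : D.Finite) {N : X.Modules}
    (hN : ClSub.IsInverseOf N (ClSub.idealMod (idl (⟨D, hDcl⟩ : Closeds X))))
    {V E : Type u} {cv : V → Set X} {ce : E → X} {ends : E → V × V}
    (hΓ : DualGr.IsDualGraph (X ↘ Spec (CommRingCat.of k)) cv ce ends) :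
    CohB1.IsAmple (CohB1.tensorMod ω N) ↔
      ∀ v : V, 0 < 2 * (@Curv2.genus k _ (idl (⟨cv v, isClosed_of_mem_irreducibleComponents (cv v) (hΓ.comp_mem v)⟩ : Closeds X)).subscheme
          (overJ k (idl (⟨cv v, isClosed_of_mem_irreducibleComponents (cv v) (hΓ.comp_mem v)⟩ : Closeds X))) : ℤ) - 2 +
        (Nat.card {e : E // (ends e).1 ≠ (ends e).2 ∧ ((ends e).1 = v ∨ (ends e).2 = v)} : ℤ) +
        (Nat.card ↥(D ∩ cv v) : ℤ) := by
  haveI := H28Int.isNoetherian k (X := X)
  have hNi := H17.InvertibleTensor.isInvertible_of_tensor_iso _ _ hN.some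
  have hMi := H11Ample.isInvertible_tensor hω.1 hNi
  have hp : IsPure (⊤ : Closeds X) := isPure_top hdim
  have hdegv : ∀ v : V, degJ k (idl (⟨cv v, isClosed_of_mem_irreducibleComponents (cv v) (hΓ.comp_mem v)⟩ : Closeds X))
      (CohB1.tensorMod ω N) =
      2 * (@Curv2.genus k _ (idl (⟨cv v, isClosed_of_mem_irreducibleComponents (cv v) (hΓ.comp_mem v)⟩ : Closeds X)).subscheme
          (overJ k (idl (⟨cv v, isClosed_of_mem_irreducibleComponents (cv v) (hΓ.comp_mem v)⟩ : Closeds X))) : ℤ) - 2 +
        (Nat.card {e : E // (ends e).1 ≠ (ends e).2 ∧ ((ends e).1 = v ∨ (ends e).2 = v)} : ℤ) +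
        (Nat.card ↥(D ∩ cv v) : ℤ) := fun v => by
    let W : Closeds X := ⟨cv v, isClosed_of_mem_irreducibleComponents (cv v) (hΓ.comp_mem v)⟩
    obtain ⟨η, hη, hηv⟩ := exists_nonclosed_generic (k := k) hequi (hΓ.comp_mem v)
    have hWη : W = ⟨closure {η}, isClosed_closure⟩ := Closeds.ext hηv.symm
    have hW : IsPure W := hWη ▸ H17.GorCurve.isPure_closure hη
    obtain ⟨hr, hc, hd⟩ := component_subcurve (k := k) hequi _ (hΓ.comp_mem v)
    haveI := hr
    haveI := hc
    rw [degJ_twist hdim hω hDcl hDfin hN (Iso.refl _) (idl W) hd, Scheme.IdealSheafData.coe_support_vanishingIdeal,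
      H17.GorCurve.deltaJ_idl, delta_eq_natCard k hdim.le hp hX hW, Nat.card_coe_set_eq]
    have hedge : {e : E | (ends e).1 ≠ (ends e).2 ∧ ((ends e).1 = v ∨ (ends e).2 = v)}.ncard =
        ((W : Set X) ∩ (H17.GorCurve.compl W : Set X)).ncard := by
      rw [← Set.ncard_image_of_injective _ hΓ.pt_injective]
      congr 1
      ext x
      constructor
      · rintro ⟨e, ⟨hne, hv⟩, rfl⟩
        refine ⟨(hΓ.incidence e v).1 hv, ?_⟩
        obtain ⟨w, hwv, hw⟩ : ∃ w : V, w ≠ v ∧ ((ends e).1 = w ∨ (ends e).2 = w) := by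
          rcases hv with h | h
          · exact ⟨_, fun h' => hne (h.trans h'.symm), Or.inr rfl⟩
          · exact ⟨_, fun h' => hne (h'.trans h.symm), Or.inl rfl⟩
        obtain ⟨η', hη', hη'w⟩ := exists_nonclosed_generic (k := k) hequi (hΓ.comp_mem w)
        have hout : η' ∉ W := fun hm => by
          refine hwv (hΓ.comp_injective ?_)
          have hs : η ⤳ η' := specializes_iff_mem_closure.2 (hηv.ge hm)
          rw [← hη'w, ← hηv, H8Props.mem_genericPoints_iff.1 (mem_genericPoints_of_not_isClosed hdim.le hη') η hs]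
        have hmem : η' ∈ H17.GorCurve.compl W := H17.GorCurve.mem_compl_of_notMem hout
        have := closure_minimal (Set.singleton_subset_iff.2 hmem) (H17.GorCurve.compl W).isClosed
        rw [hη'w] at this
        exact this ((hΓ.incidence e w).1 hw)
      · rintro ⟨hxW, hxC⟩
        obtain ⟨e, rfl⟩ := hΓ.pt_surjective x (mem_nonsmoothPts hdim hW hxW hxC)
        refine ⟨e, ⟨fun heq => ?_, (hΓ.incidence e v).2 hxW⟩, rfl⟩
        have h1 := H17.GorCurve.isPure_compl hp W hxC
        rw [← Set.biUnion_of_singleton {z | z ∈ H17.GorCurve.compl W ∧ ¬ IsClosed ({z} : Set X)},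
          ((finite_nonclosed hdim.le).subset fun z hz => hz.2).closure_biUnion] at h1
        obtain ⟨η', hη', hx'⟩ := Set.mem_iUnion₂.1 h1
        obtain ⟨w, hw⟩ := hΓ.comp_surjective _ (mem_genericPoints_of_not_isClosed hdim.le hη'.2)
        have hwv : w = v := by
          have e1 := (hΓ.incidence e v).2 hxW
          have e2 := (hΓ.incidence e w).2 (hw.ge hx')
          rw [← heq, or_self] at e1 e2
          exact e2.symm.trans e1
        subst hwv
        exact (H17.GorCurve.mem_iff_notMem_compl hdim.le hp W hη'.2).1 (hw.ge (subset_closure rfl)) hη'.1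
    rw [← hedge, Nat.card_coe_set_eq]
    rfl
  refine ⟨fun hamp v => ?_, fun hpos => (S7642.result k X hdim.le _ hMi).2 fun C hC hCd => ?_⟩
  · rw [← hdegv v]
    obtain ⟨hr, hc, hd⟩ := component_subcurve (k := k) hequi _ (hΓ.comp_mem v)
    haveI := hr
    haveI := hc
    exact H17.GorCurve.degJ_pos_of_ample hdim.le hamp _ hd
  · obtain ⟨v, rfl⟩ := hΓ.comp_surjective C hC
    have hJ : (X.irreducibleComponentIdeal (cv v) hC).radical =
        idl (⟨cv v, isClosed_of_mem_irreducibleComponents (cv v) hC⟩ : Closeds X) :=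
      Scheme.IdealSheafData.vanishingIdeal_support.symm.trans (congrArg idl (Closeds.ext rfl))
    rw [hJ]
    show 0 < degJ k _ _
    rw [hdegv v]
    exact hpos v

/-- Trees with at most three nodes: the inverse of the dualizing module. -/
theorem inverse_dualizing_tree (hdim : topologicalKrullDim X = 1) (hX : Curv2.AtWorstNodal k X)
    (hg : Curv2.genus k X = 0) {ω : X.Modules} (hω : IsDualizing k ω)
    (h3 : {x : X | Curv2.IsNode k X x}.encard ≤ 3) {ωd : X.Modules} (hωd : ClSub.IsInverseOf ωd ω) :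
    Subsingleton (Coh.HH X (CohB1.tensorPow ω 2) 0) ∧ Subsingleton (Coh.HH X ωd 1) ∧
      Module.finrank k (Coh.HH X ωd 0) = 3 := by
  haveI := H28Int.isNoetherian k (X := X)
  haveI := H10Coh.finite_HH_proper k X _ (H10Coh.isCoh_structureModule' X) 1
  have hg1 : Subsingleton (Coh.HH X (Coh.structureModule X) 1) := (Module.finrank_zero_iff (R := k)).1 hg
  have h2 := tree_three_nodes (k := k) hdim hX hg1 hω h3
  obtain ⟨e⟩ := hωd
  obtain ⟨hω₁, t, ht⟩ := id hω
  have hdi : PicF.IsInvertible ωd := H17.InvertibleTensor.isInvertible_of_tensor_iso _ _ e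
  let e2 : CohB1.tensorPow ω 2 ≅ CohB1.tensorMod ω ω :=
    PicGrp.tensorModIso (H10Coh.Tw.leftUnitIso ω) (Iso.refl ω)
  haveI := h2
  have hs2 : Subsingleton (Coh.HH X (CohB1.tensorPow ω 2) 0) := (hhIso (k := k) e2 0).toEquiv.subsingleton
  haveI := H10Coh.finite_HH_proper k X ωd (H11Ample.isCoh_of_isInvertible hdi) 1
  have h1 : Module.finrank k (Coh.HH X ωd 1) = 0 := by
    rw [H17.GorCurve.finrank_h1 t ht (H11Ample.isCoh_of_isInvertible hdi), finrank_hom_invertible k hω₁ e]
    exact Module.finrank_zero_of_subsingleton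
  refine ⟨hs2, (Module.finrank_zero_iff (R := k)).1 h1, ?_⟩
  have hdeg : Curv2.deg k X ωd 1 + Curv2.deg k X ω 1 = 0 := by
    rw [← H27Prod.deg_tensor k (by exact_mod_cast hdim.le) hdi hω₁, H27Prod.deg_congr k e, H27Prod.deg_structure k]
  have hdω := H17.GorCurve.deg_omega hdim hω
  have hχ : Curv2.euler k X (Coh.structureModule X) = 1 := by
    rw [H29RR.euler_eq_sub (k := k) hdim.le, H29RR.finrank_h0_structure k X]
    have : Module.finrank k (Coh.HH X (Coh.structureModule X) 1) = 0 := hg
    omega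
  rw [H29RR.deg_def, H29RR.euler_eq_sub (k := k) hdim.le ωd, h1, hdω] at hdeg
  omega

/-- A connected nodal curve has a dualizing module. -/
theorem exists_isDualizing (hdim : topologicalKrullDim X = 1) (hX : Curv2.AtWorstNodal k X) :
    ∃ ω : X.Modules, IsDualizing k ω := by
  let f := X ↘ Spec (CommRingCat.of k)
  haveI := H4RepDual.hasExtModules X
  haveI := H16Derived.QCohD.hasRpush f
  haveI : CompactSpace X := QuasiCompact.compactSpace_of_compactSpace f
  haveI : QuasiSeparatedSpace X := quasiSeparatedSpace_of_quasiSeparated f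
  haveI := H16Derived.QCohD.preservesFiniteLimits_tilde_of (CommRingCat.of k)
  have h : ∀ K : DCoh.D X, DCoh.IsQCohD K → DCoh.IsQCohD ((DCoh.Rpush f).obj K) := fun K hK =>
    H16Derived.QCohD.isQCohD_rpush f hK
  haveI : DCoh.HasShriek f h := LeadBrown.isLeftAdjoint_rpushQ f h
  let S := Spec (CommRingCat.of k)
  let O : DCoh.DQCoh S := ⟨DCoh.inD S (Coh.structureModule S),
    H16Derived.TorTest.isQCohD_inD H10Coh.isQuasicoherent_unit⟩
  obtain ⟨-, -, hω⟩ := pointed_setup hdim hX h O ⟨Iso.refl _⟩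
  exact ⟨_, hω⟩

end Groth.Agent.H23Gor
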