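import Groth.Agent.H23Gor.DegAdd
import Groth.Agent.H23Gor.NodalSubcurve
import Groth.Agent.H22Alg.GlobalFunctions

/-!
# The dualizing module on curves without rational tails or bridges
-/

set_option autoImplicit false
set_option linter.style.haveILetI false
set_option linter.unusedSectionVars false
set_option backward.isDefEq.respectTransparency false
set_option synthInstance.maxHeartbeats 400000
set_option maxHeartbeats 1000000

universe u

open CategoryTheory CategoryTheory.Limits AlgebraicGeometry TopologicalSpace Opposite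
open Groth.Agent.H29RR Groth.Agent.H29CurveDual Groth.Agent.H29CurveDual.Subcurve

attribute [local instance] HasDerivedCategory.standard

namespace Groth.Agent.H23Gor

attribute [local instance 10000] H10Coh.hasSheafifyAb H10Coh.hasWeakSheafifyAb H10Coh.hasExtAb H10Coh.enoughInjAb

open Groth.Agent.H17.GorCurve (overJ degJ deltaJ IsDualizing)

variable {k : Type u} [Field k] {X : Scheme.{u}} [X.Over (Spec (CommRingCat.of k))]
  [IsProper (X ↘ Spec (CommRingCat.of k))]

/-- The structure morphism of a closed subscheme. -/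
noncomputable abbrev strJ (k : Type u) [Field k] [X.Over (Spec (CommRingCat.of k))] (J : X.IdealSheafData) :
    J.subscheme ⟶ Spec (CommRingCat.of k) := J.subschemeι ≫ (X ↘ Spec (CommRingCat.of k))

/-- Global functions of a closed subscheme and the zeroth cohomology of the quotient. -/
theorem finrank_gamma (J : X.IdealSheafData) :
    Module.finrank k (Coh.HH X (ClSub.quotMod J) 0) =
      @Module.finrank k Γ(J.subscheme, ⊤) _ _ (H22Alg.GlobalFunctions.algΓ (strJ k J)).toModule := by
  letI := overJ k J
  letI := H22Alg.GlobalFunctions.algΓ (strJ k J)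
  rw [finrank_quotMod k J 0]
  let e : Coh.HH J.subscheme (Coh.structureModule J.subscheme) 0 ≃ₗ[k] Γ(J.subscheme, ⊤) :=
    { H10Coh.HH0Equiv (Coh.structureModule J.subscheme) with
      map_smul' := fun c x => (H10Coh.HH0Equiv_smul (Coh.structureModule J.subscheme)
        ((strJ k J).appTop ((Scheme.ΓSpecIso (CommRingCat.of k)).inv c)) x).trans rfl }
  exact e.finrank_eq

theorem finite_gamma (J : X.IdealSheafData) :
    @Module.Finite k Γ(J.subscheme, ⊤) _ _ (H22Alg.GlobalFunctions.algΓ (strJ k J)).toModule := by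
  letI := overJ k J
  letI := H22Alg.GlobalFunctions.algΓ (strJ k J)
  haveI : IsProper (J.subscheme ↘ Spec (CommRingCat.of k)) := inferInstanceAs (IsProper (strJ k J))
  haveI := H28Int.isNoetherian k (X := J.subscheme)
  let e : Coh.HH J.subscheme (Coh.structureModule J.subscheme) 0 ≃ₗ[k] Γ(J.subscheme, ⊤) :=
    { H10Coh.HH0Equiv (Coh.structureModule J.subscheme) with
      map_smul' := fun c x => (H10Coh.HH0Equiv_smul (Coh.structureModule J.subscheme)
        ((strJ k J).appTop ((Scheme.ΓSpecIso (CommRingCat.of k)).inv c)) x).trans rfl }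
  haveI := H10Coh.finite_HH_proper k J.subscheme _ (H10Coh.isCoh_structureModule' J.subscheme) 0
  exact Module.Finite.equiv e

/-- The sections on a larger ideal form an algebra over the field of functions of a connected subcurve. -/
theorem finrank_quotMod_mul (J I' : X.IdealSheafData) [IsReduced J.subscheme] [ConnectedSpace J.subscheme]
    (hle : J ≤ I') :
    0 < Module.finrank k (Coh.HH X (ClSub.quotMod J) 0) ∧
      ∃ m : ℕ, Module.finrank k (Coh.HH X (ClSub.quotMod I') 0) = Module.finrank k (Coh.HH X (ClSub.quotMod J) 0) * m ∧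
        (m = 1 → Function.Bijective (Scheme.IdealSheafData.inclusion hle).appTop.hom) := by
  letI := H22Alg.GlobalFunctions.algΓ (strJ k J)
  letI := H22Alg.GlobalFunctions.algΓ (strJ k I')
  haveI : Module.Finite k Γ(J.subscheme, ⊤) := finite_gamma J
  haveI : Module.Finite k Γ(I'.subscheme, ⊤) := finite_gamma I'
  let j := Scheme.IdealSheafData.inclusion hle
  have hj : j ≫ J.subschemeι = I'.subschemeι := Scheme.IdealSheafData.inclusion_subschemeι hle
  have hK : IsField Γ(J.subscheme, ⊤) := H22Alg.GlobalFunctions.isField_of_universallyClosed (strJ k J)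
  letI := hK.toField
  let ρ := j.appTop.hom
  letI : Algebra Γ(J.subscheme, ⊤) Γ(I'.subscheme, ⊤) := ρ.toAlgebra
  haveI : IsScalarTower k Γ(J.subscheme, ⊤) Γ(I'.subscheme, ⊤) := IsScalarTower.of_algebraMap_eq fun c => by
    show (strJ k I').appTop ((Scheme.ΓSpecIso (CommRingCat.of k)).inv c) =
      ρ ((strJ k J).appTop ((Scheme.ΓSpecIso (CommRingCat.of k)).inv c))
    have h1 : strJ k I' = j ≫ strJ k J := by
      show I'.subschemeι ≫ _ = j ≫ J.subschemeι ≫ _
      rw [← Category.assoc, hj]
    rw [h1, Scheme.Hom.comp_appTop]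
    rfl
  haveI : Module.Finite Γ(J.subscheme, ⊤) Γ(I'.subscheme, ⊤) :=
    Module.Finite.of_restrictScalars_finite k _ _
  refine ⟨?_, Module.finrank Γ(J.subscheme, ⊤) Γ(I'.subscheme, ⊤), ?_, fun hm => ?_⟩
  · rw [finrank_gamma J]
    exact Module.finrank_pos
  · rw [finrank_gamma J, finrank_gamma I']
    exact (Module.finrank_mul_finrank k Γ(J.subscheme, ⊤) Γ(I'.subscheme, ⊤)).symm
  · haveI : Nontrivial Γ(I'.subscheme, ⊤) := Module.nontrivial_of_finrank_pos (R := Γ(J.subscheme, ⊤)) (by omega)
    refine ⟨ρ.injective, fun w => ?_⟩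
    obtain ⟨c, hc⟩ := exists_smul_eq_of_finrank_eq_one hm (one_ne_zero (α := Γ(I'.subscheme, ⊤))) w
    exact ⟨c, by rwa [Algebra.smul_def, mul_one] at hc⟩

include k in
/-- If the restriction of functions is bijective, the intersection is a single point with the same functions. -/
theorem tail_of_bijective (J I' : X.IdealSheafData) [IsReduced J.subscheme] [ConnectedSpace J.subscheme]
    (hle : J ≤ I') (hfin : (I'.support : Set X).Finite) (hne : (I'.support : Set X).Nonempty)
    (hb : Function.Bijective (Scheme.IdealSheafData.inclusion hle).appTop.hom) :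
    Nonempty I'.subscheme ∧ Subsingleton I'.subscheme ∧ IsReduced I'.subscheme ∧
      ∀ c : I'.subscheme, Function.Bijective
        (J.subscheme.evaluation ⊤ ((Scheme.IdealSheafData.inclusion hle).base c) trivial) := by
  let j := Scheme.IdealSheafData.inclusion hle
  let Z := I'.subscheme
  have hne' : Nonempty Z := by
    obtain ⟨x, hx⟩ := hne
    rw [← Scheme.IdealSheafData.range_subschemeι] at hx
    obtain ⟨z, -⟩ := hx
    exact ⟨z⟩
  haveI : Finite Z := by
    haveI := hfin.to_subtype
    exact Finite.of_equiv _ ((Equiv.ofInjective _ I'.subschemeι.isClosedEmbedding.injective).trans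
      (Equiv.setCongr I'.range_subschemeι)).symm
  haveI : LocallyQuasiFinite (strJ k I') :=
    locallyQuasiFinite_iff_finite_preimage_singleton.2 fun _ => Set.toFinite _
  haveI : IsFinite (strJ k I') :=
    (IsFinite.iff_isProper_and_locallyQuasiFinite (strJ k I')).2 ⟨inferInstance, inferInstance⟩
  haveI : IsAffine Z := isAffine_of_isAffineHom (strJ k I')
  have hK : IsField Γ(J.subscheme, ⊤) := H22Alg.GlobalFunctions.isField_of_universallyClosed (strJ k J)
  have hA : IsField Γ(Z, ⊤) := (RingEquiv.ofBijective _ hb).symm.toMulEquiv.isField hK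
  letI := hA.toField
  haveI : _root_.IsReduced Γ(Z, ⊤) := inferInstance
  haveI : Subsingleton (Spec Γ(Z, ⊤)) := inferInstanceAs (Subsingleton (PrimeSpectrum Γ(Z, ⊤)))
  refine ⟨hne', Z.isoSpec.hom.homeomorph.toEquiv.subsingleton, isReduced_of_isOpenImmersion Z.isoSpec.hom, fun c => ?_⟩
  refine ⟨?_, fun a => ?_⟩
  · haveI : Nontrivial (J.subscheme.residueField (j.base c)) := inferInstance
    letI := hK.toField
    exact (J.subscheme.evaluation ⊤ (j.base c) trivial).hom.injective
  · obtain ⟨b, hb'⟩ := Z.residue_surjective c (j.residueFieldMap c a)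
    have hgs : Function.Surjective (Z.presheaf.germ ⊤ c trivial) := by
      letI := TopCat.Presheaf.algebra_section_stalk Z.presheaf (⟨c, trivial⟩ : (⊤ : Z.Opens))
      haveI := (isAffineOpen_top Z).isLocalization_stalk ⟨c, trivial⟩
      intro t
      obtain ⟨⟨x, s⟩, hx⟩ := IsLocalization.surj ((isAffineOpen_top Z).primeIdealOf ⟨c, trivial⟩).asIdeal.primeCompl t
      have hs : (s : Γ(Z, ⊤)) ≠ 0 := fun h0 => s.2 (h0 ▸ Submodule.zero_mem _)
      refine ⟨x * (s : Γ(Z, ⊤))⁻¹, ?_⟩
      show algebraMap Γ(Z, ⊤) (Z.presheaf.stalk c) (x * (s : Γ(Z, ⊤))⁻¹) = t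
      rw [map_mul, ← hx, mul_assoc, ← map_mul, mul_inv_cancel₀ hs, map_one, mul_one]
    obtain ⟨w, hw⟩ := hgs b
    obtain ⟨y, hy⟩ := hb.2 w
    refine ⟨y, (j.residueFieldMap c).hom.injective ?_⟩
    refine (Scheme.evaluation_naturality_apply j c (V := ⊤) trivial y).trans ?_
    refine Eq.trans ?_ hb'
    show Z.residue c (Z.presheaf.germ ⊤ c trivial (j.appTop y)) = Z.residue c b
    rw [← hw, ← hy]

/-- Functions on a connected subcurve inject into its first cohomology when this is nonzero. -/
theorem h0_le_h1 (J : X.IdealSheafData) [IsReduced J.subscheme] [ConnectedSpace J.subscheme] :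
    letI := overJ k J
    Module.finrank k (Coh.HH J.subscheme (Coh.structureModule J.subscheme) 1) = 0 ∨
      Module.finrank k (Coh.HH J.subscheme (Coh.structureModule J.subscheme) 0) ≤
        Module.finrank k (Coh.HH J.subscheme (Coh.structureModule J.subscheme) 1) := by
  letI := overJ k J
  haveI : IsProper (J.subscheme ↘ Spec (CommRingCat.of k)) := inferInstanceAs (IsProper (strJ k J))
  haveI := H28Int.isNoetherian k (X := J.subscheme)
  let O := Coh.structureModule J.subscheme
  haveI := H10Coh.finite_HH_proper k J.subscheme O (H10Coh.isCoh_structureModule' J.subscheme) 1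
  rcases subsingleton_or_nontrivial (Coh.HH J.subscheme O 1) with h | h
  · exact Or.inl Module.finrank_zero_of_subsingleton
  refine Or.inr ?_
  obtain ⟨y, hy⟩ := exists_ne (0 : Coh.HH J.subscheme O 1)
  have hK : IsField Γ(J.subscheme, ⊤) := H22Alg.GlobalFunctions.isField_of_universallyClosed (strJ k J)
  have hs : ∀ r : Γ(J.subscheme, ⊤), H11Tilde.homOfGlobal O r = scal O r := fun r => by
    refine Scheme.Modules.hom_ext _ _ fun U => ?_
    ext m
    show (H11Tilde.homOfGlobal O r).app U m = (scal O r).app U m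
    rw [H11Tilde.homOfGlobal_app, scal_app]
    exact mul_comm (G := Γ(J.subscheme, U)) _ _
  refine LinearMap.finrank_le_finrank_of_injective
    (f := (mulH (k := k) O 1).flip y) ((injective_iff_map_eq_zero _).2 fun v hv => ?_)
  by_contra hv0
  have hr : (sec O v : Γ(J.subscheme, ⊤)) ≠ 0 := fun h0 => hv0 ((sec O).injective (h0.trans (map_zero (sec O)).symm))
  obtain ⟨r', hr'⟩ := hK.mul_inv_cancel hr
  refine hy ?_
  have h1 : Canon.HHlin k (scal O (sec O v)) 1 y = 0 := by rw [← hs]; exact hv
  have h2 : scal O (sec O v) ≫ scal O r' = 𝟙 O := by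
    rw [← scal_mul, mul_comm, hr', scal_one]
  rw [← H29RR.hhlin_id (k := k) O 1 y, ← h2, H25Par.hhlin_comp, LinearMap.comp_apply, h1, map_zero]

variable [IsReduced X] [ConnectedSpace X]

/-- The numbers attached to a proper connected subcurve. -/
theorem degJ_numerics (hdim : topologicalKrullDim X = 1) {ω : X.Modules} (hω : IsDualizing k ω)
    (J : X.IdealSheafData) [IsReduced J.subscheme] [ConnectedSpace J.subscheme]
    (hJ : topologicalKrullDim J.subscheme = 1) (hne : J ≠ ⊥) :
    ∃ h0 h1 m : ℕ, 0 < h0 ∧ 0 < m ∧ h0 = Module.finrank k (Coh.HH X (ClSub.quotMod J) 0) ∧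
      h1 = Module.finrank k (Coh.HH X (ClSub.quotMod J) 1) ∧ deltaJ k J = (h0 * m : ℕ) ∧ (h1 = 0 ∨ h0 ≤ h1) ∧
      degJ k J ω = 2 * (h1 : ℤ) - 2 * h0 + (h0 * m : ℕ) := by
  obtain ⟨hpos, m, hm, -⟩ := finrank_quotMod_mul (k := k) J
    (J ⊔ Scheme.IdealSheafData.vanishingIdeal ⟨closure ((J.support : Set X)ᶜ), isClosed_closure⟩) le_sup_left
  have hδ := H17.GorCurve.deltaJ_pos (k := k) hdim J hne
  have hd := H17.GorCurve.degJ_omega hdim hω J hJ
  letI := overJ k J
  haveI : IsProper (J.subscheme ↘ Spec (CommRingCat.of k)) := inferInstanceAs (IsProper (strJ k J))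
  rw [H29RR.euler_eq_sub (k := k) hJ.le] at hd
  have h01 := h0_le_h1 (k := k) J
  have e0 := finrank_quotMod k J 0
  have e1 := finrank_quotMod k J 1
  refine ⟨_, _, m, hpos, ?_, rfl, rfl, ?_, ?_, ?_⟩
  · rcases Nat.eq_zero_or_pos m with rfl | h
    · rw [H17.GorCurve.deltaJ, hm, mul_zero] at hδ; simp at hδ
    · exact h
  · rw [H17.GorCurve.deltaJ, hm]
  · rw [e0, e1]; exact h01
  · rw [hd, H17.GorCurve.deltaJ, hm, e0, e1]
    push_cast
    ring

omit [IsReduced X] [ConnectedSpace X] in
include k in
/-- The subscheme of a component. -/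
theorem component_subcurve
    (hequi : ∀ Z ∈ irreducibleComponents (X : Type u), topologicalKrullDim Z = 1)
    (C : Set X) (hC : C ∈ irreducibleComponents (X : Type u)) :
    IsReduced (idl (⟨C, isClosed_of_mem_irreducibleComponents C hC⟩ : Closeds X)).subscheme ∧
      ConnectedSpace (idl (⟨C, isClosed_of_mem_irreducibleComponents C hC⟩ : Closeds X)).subscheme ∧
      topologicalKrullDim (idl (⟨C, isClosed_of_mem_irreducibleComponents C hC⟩ : Closeds X)).subscheme = 1 := by
  let IC := idl (⟨C, isClosed_of_mem_irreducibleComponents C hC⟩ : Closeds X)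
  have hr : Set.range IC.subschemeι = C := by
    rw [Scheme.IdealSheafData.range_subschemeι, Scheme.IdealSheafData.coe_support_vanishingIdeal]; rfl
  let e := IC.subschemeι.isClosedEmbedding.isEmbedding.toHomeomorph
  haveI : ConnectedSpace C := isConnected_iff_connectedSpace.1 hC.1.isConnected
  haveI : ConnectedSpace (Set.range IC.subschemeι) := hr.symm ▸ ‹ConnectedSpace C›
  exact ⟨H17.isReduced_vanishingIdeal_subscheme _, e.symm.surjective.connectedSpace e.symm.continuous,
    by rw [e.isHomeomorph.topologicalKrullDim_eq, hr, hequi C hC]⟩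

include k in
omit [ConnectedSpace X] in
theorem ker_opens_compl (C : Set X) (hC : C ∈ irreducibleComponents (X : Type u)) :
    (Scheme.Opens.ι (⟨Cᶜ, (isClosed_of_mem_irreducibleComponents C hC).isOpen_compl⟩ : X.Opens)).ker =
      Scheme.IdealSheafData.vanishingIdeal ⟨closure (((idl (⟨C, isClosed_of_mem_irreducibleComponents C hC⟩ :
        Closeds X)).support : Set X)ᶜ), isClosed_closure⟩ := by
  haveI := H28Int.isNoetherian k (X := X)
  haveI : QuasiCompact (Scheme.Opens.ι (⟨Cᶜ, (isClosed_of_mem_irreducibleComponents C hC).isOpen_compl⟩ : X.Opens)) :=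
    inferInstance
  rw [ker_opens_ι]
  congr 1

/-- Adjunction on a proper component: tails and bridges are the exceptions. -/
theorem component_bounds (hdim : topologicalKrullDim X = 1) {ω : X.Modules} (hω : IsDualizing k ω)
    (hequi : ∀ Z ∈ irreducibleComponents (X : Type u), topologicalKrullDim Z = 1)
    (C : Set X) (hC : C ∈ irreducibleComponents (X : Type u))
    (hne : idl (⟨C, isClosed_of_mem_irreducibleComponents C hC⟩ : Closeds X) ≠ ⊥)
    (hnt : ¬ Curv2.IsRationalTail X C hC) :
    0 ≤ degJ k (idl (⟨C, isClosed_of_mem_irreducibleComponents C hC⟩ : Closeds X)) ω ∧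
      (¬ Curv2.IsRationalBridge k X C hC →
        0 < degJ k (idl (⟨C, isClosed_of_mem_irreducibleComponents C hC⟩ : Closeds X)) ω) := by
  let IC := idl (⟨C, isClosed_of_mem_irreducibleComponents C hC⟩ : Closeds X)
  haveI := H28Int.isNoetherian k (X := X)
  obtain ⟨hred, hconn, hd⟩ := component_subcurve (k := k) hequi C hC
  haveI := hred
  haveI := hconn
  obtain ⟨h0, h1, m, hpos, hm, e0, e1, hδ, h01, hdeg⟩ := degJ_numerics hdim hω IC hd hne
  show 0 ≤ degJ k IC ω ∧ (_ → 0 < degJ k IC ω)
  rcases Nat.eq_zero_or_pos h1 with hz | hp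
  swap
  · have hle : h0 ≤ h1 := h01.resolve_left (by omega)
    have : (0 : ℤ) < (h0 * m : ℕ) := by exact_mod_cast Nat.mul_pos hpos hm
    exact ⟨by omega, fun _ => by omega⟩
  let IX' := (Scheme.Opens.ι (⟨Cᶜ, (isClosed_of_mem_irreducibleComponents C hC).isOpen_compl⟩ : X.Opens)).ker
  have hX' : IX' = _ := ker_opens_compl (k := k) C hC
  have hδ' : Module.finrank k (Coh.HH X (ClSub.quotMod (IC ⊔ IX')) 0) = h0 * m := by
    rw [hX']
    exact_mod_cast hδ
  have h1' : Subsingleton (Coh.HH IC.subscheme (Coh.structureModule IC.subscheme) 1) := by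
    letI := overJ k IC
    haveI : IsProper (IC.subscheme ↘ Spec (CommRingCat.of k)) := inferInstanceAs (IsProper (strJ k IC))
    haveI := H28Int.isNoetherian k (X := IC.subscheme)
    haveI := H10Coh.finite_HH_proper k IC.subscheme _ (H10Coh.isCoh_structureModule' IC.subscheme) 1
    refine (Module.finrank_zero_iff (R := k)).1 ?_
    rw [← finrank_quotMod k IC 1, ← e1, hz]
  have hlen : (0 : ℕ) < Module.finrank k (Coh.HH X (ClSub.quotMod (IC ⊔ IX')) 0) := hδ' ▸ Nat.mul_pos hpos hm
  have hsupp : ((IC ⊔ IX').support : Set X).Nonempty := by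
    by_contra he
    haveI : Subsingleton (Coh.HH X (ClSub.quotMod (IC ⊔ IX')) 0) := by
      have hb := H25Par.germs_bijective (k := k) (ClSub.quotMod (IC ⊔ IX')) Set.finite_empty
        (fun z hz => absurd hz (Set.notMem_empty z)) fun y _ => not_not.1 fun hy => he ⟨y, (mem_support_quot _).le hy⟩
      exact hb.1.subsingleton
    rw [Module.finrank_zero_of_subsingleton] at hlen
    exact lt_irrefl _ hlen
  have hcl : ∀ z ∈ ((IC ⊔ IX').support : Set X), IsClosed ({z} : Set X) := fun z hz => by
    rw [hX', Scheme.IdealSheafData.support_sup, Closeds.coe_inf, Scheme.IdealSheafData.coe_support_vanishingIdeal,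
      Scheme.IdealSheafData.coe_support_vanishingIdeal] at hz
    by_contra h
    refine (H17.GorCurve.mem_iff_notMem_compl hdim.le (isPure_top hdim) _ h).1 hz.1 ?_
    exact hz.2
  have hne' : (IX'.support : Set X).Nonempty :=
    hsupp.mono (Scheme.IdealSheafData.support_antitone le_sup_right)
  refine ⟨?_, fun hnb => ?_⟩
  · by_contra hlt
    obtain ⟨-, m', hm', hbij⟩ := finrank_quotMod_mul (k := k) IC (IC ⊔ IX') le_sup_left
    have hm1 : m = 1 := by
      by_contra h2
      have : 2 * h0 ≤ h0 * m := by
        rw [mul_comm 2 h0]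
        exact Nat.mul_le_mul_left _ (by omega)
      omega
    have hm'1 : m' = 1 := by
      rw [hδ', ← e0, hm1] at hm'
      exact (Nat.eq_of_mul_eq_mul_left hpos hm').symm
    obtain ⟨t1, t2, t3, t4⟩ := tail_of_bijective (k := k) IC (IC ⊔ IX') le_sup_left
      (finite_of_closed_points (IC ⊔ IX').support.isClosed hcl) hsupp (hbij hm'1)
    exact hnt ⟨hne', t1, t2, t3, t4, h1'⟩
  · rcases lt_trichotomy m 2 with hlt | heq | hgt
    · exfalso
      obtain ⟨-, m', hm', hbij⟩ := finrank_quotMod_mul (k := k) IC (IC ⊔ IX') le_sup_left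
      have hm1 : m = 1 := by omega
      have hm'1 : m' = 1 := by
        rw [hδ', ← e0, hm1] at hm'
        exact (Nat.eq_of_mul_eq_mul_left hpos hm').symm
      obtain ⟨t1, t2, t3, t4⟩ := tail_of_bijective (k := k) IC (IC ⊔ IX') le_sup_left
        (finite_of_closed_points (IC ⊔ IX').support.isClosed hcl) hsupp (hbij hm'1)
      exact hnt ⟨hne', t1, t2, t3, t4, h1'⟩
    · exact (hnb ⟨hne', by rw [← e0]; exact hδ'.trans (by rw [heq, mul_comm]), h1'⟩).elim
    · have : 3 * h0 ≤ h0 * m := by
        rw [mul_comm 3 h0]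
        exact Nat.mul_le_mul_left _ hgt
      omega

/-- The degree of the dualizing module on a component of a curve which is not that component. -/
theorem irreducibleComponent_ne_bot (C : Set X) (hC : C ∈ irreducibleComponents (X : Type u))
    (hX : C ≠ Set.univ) : idl (⟨C, isClosed_of_mem_irreducibleComponents C hC⟩ : Closeds X) ≠ ⊥ := fun h => hX (by
  have := congrArg (fun I : X.IdealSheafData => (I.support : Set X)) h
  rw [Scheme.IdealSheafData.coe_support_vanishingIdeal] at this
  simpa using this)

/-- The dualizing module has degree at least `h¹` on proper subcurves of curves without rational tails. -/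
theorem h1_le_degJ (hdim : topologicalKrullDim X = 1) {ω : X.Modules} (hω : IsDualizing k ω)
    (hequi : ∀ Z ∈ irreducibleComponents (X : Type u), topologicalKrullDim Z = 1)
    (hnt : ∀ (C : Set X) (hC : C ∈ irreducibleComponents (X : Type u)), ¬ Curv2.IsRationalTail X C hC)
    (J : X.IdealSheafData) [IsReduced J.subscheme] [ConnectedSpace J.subscheme]
    (hJ : topologicalKrullDim J.subscheme = 1) (hne : J ≠ ⊥) :
    (Module.finrank k (Coh.HH X (ClSub.quotMod J) 1) : ℤ) ≤ degJ k J ω := by
  haveI := H28Int.isNoetherian k (X := X)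
  obtain ⟨h0, h1, m, hpos, hm, e0, e1, hδ, h01, hdeg⟩ := degJ_numerics hdim hω J hJ hne
  have : (h0 : ℤ) ≤ (h0 * m : ℕ) := by exact_mod_cast Nat.le_mul_of_pos_right h0 hm
  rw [← e1]
  rcases Nat.eq_zero_or_pos h1 with hz | hp
  · rw [hz, Nat.cast_zero]
    refine degJ_nonneg hdim.le hω.1 J fun η hη hn => ?_
    have hC : closure ({η} : Set X) ∈ irreducibleComponents (X : Type u) :=
      mem_genericPoints_of_not_isClosed hdim.le hn
    refine (component_bounds hdim hω hequi _ hC (irreducibleComponent_ne_bot _ hC fun hu => hne ?_) (hnt _ hC)).1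
    have hJu : J.support = ⊤ := top_le_iff.1 fun x _ =>
      closure_minimal (Set.singleton_subset_iff.2 hη) J.support.isClosed (hu.ge (Set.mem_univ x))
    rw [H17.GorCurve.idl_support J, hJu, idl, Scheme.IdealSheafData.vanishingIdeal_top, Scheme.nilradical_eq_bot]
  · have := h01.resolve_left (by omega)
    omega

/-- Without rational tails and bridges, in genus at least two, the dualizing module is ample. -/
theorem isAmple_dualizing (hdim : topologicalKrullDim X = 1) {ω : X.Modules} (hω : IsDualizing k ω)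
    (hequi : ∀ Z ∈ irreducibleComponents (X : Type u), topologicalKrullDim Z = 1)
    (h0 : Module.finrank k (Coh.HH X (Coh.structureModule X) 0) = 1) (hg : 2 ≤ Curv2.genus k X)
    (hnt : ∀ (C : Set X) (hC : C ∈ irreducibleComponents (X : Type u)), ¬ Curv2.IsRationalTail X C hC)
    (hnb : ∀ (C : Set X) (hC : C ∈ irreducibleComponents (X : Type u)), ¬ Curv2.IsRationalBridge k X C hC) :
    CohB1.IsAmple ω := by
  haveI := H28Int.isNoetherian k (X := X)
  refine (S7642.result k X hdim.le ω hω.1).2 fun C hC hCd => ?_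
  have hJ : (X.irreducibleComponentIdeal C hC).radical =
      idl (⟨C, isClosed_of_mem_irreducibleComponents C hC⟩ : Closeds X) :=
    Scheme.IdealSheafData.vanishingIdeal_support.symm.trans (congrArg idl (Closeds.ext (by
      show ((X.irreducibleComponentIdeal C hC).support : Set X) = C
      rfl)))
  rw [hJ]
  show 0 < degJ k (idl (⟨C, isClosed_of_mem_irreducibleComponents C hC⟩ : Closeds X)) ω
  by_cases hu : C = Set.univ
  · have hb : idl (⟨C, isClosed_of_mem_irreducibleComponents C hC⟩ : Closeds X) = ⊥ := by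
      rw [show (⟨C, isClosed_of_mem_irreducibleComponents C hC⟩ : Closeds X) = ⊤ from Closeds.ext hu, idl,
        Scheme.IdealSheafData.vanishingIdeal_top, Scheme.nilradical_eq_bot]
    rw [hb, H17.GorCurve.degJ_bot hω.1, H17.GorCurve.deg_omega hdim hω, H29RR.euler_eq_sub (k := k) hdim.le, h0]
    have : Module.finrank k (Coh.HH X (Coh.structureModule X) 1) = Curv2.genus k X := rfl
    omega
  · exact (component_bounds hdim hω hequi C hC (irreducibleComponent_ne_bot C hC hu) (hnt C hC)).2 (hnb C hC)

end Groth.Agent.H23Gor
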