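import Groth.Agent.H23Gor.Vanishing
import Groth.Agent.H17.GorCurve.Curve
import Groth.Agent.H29CurveDual.SingularVanish
import Groth.Agent.H17.SuppTensor
import Groth.Agent.H25Par.FibKer
import Groth.Agent.H29RR.GenPoint
import Groth.Agent.H10Coh.TensorTilde

/-!
# Submodules of finite colength in invertible modules on Gorenstein curves

If `L` is positive enough on every pure closed subset, coherent submodules of small colength have no
first cohomology, and submodules of colength at most one are spanned by their sections.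
-/

set_option autoImplicit false
set_option linter.style.haveILetI false
set_option linter.unusedSectionVars false
set_option backward.isDefEq.respectTransparency false
set_option synthInstance.maxHeartbeats 400000
set_option maxHeartbeats 1000000

universe u

open CategoryTheory CategoryTheory.Limits AlgebraicGeometry TopologicalSpace Opposite
open Groth.Agent.H29RR Groth.Agent.H06Mod Groth.Agent.H29CurveDual Groth.Agent.H29CurveDual.Subcurve

namespace Groth.Agent.H23Gor

attribute [local instance 10000] H10Coh.hasSheafifyAb H10Coh.hasWeakSheafifyAb H10Coh.hasExtAb H10Coh.enoughInjAb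
attribute [local irreducible] Curv2.euler
attribute [local instance] Curv2.resAlgebra homModule

open Groth.Agent.H17.GorCurve (degW delta IsDualizing bijective_stalk_proj mem_iff_notMem_compl)

variable {k : Type u} [Field k] {X : Scheme.{u}} [X.Over (Spec (CommRingCat.of k))]
  [IsProper (X ↘ Spec (CommRingCat.of k))]

/-- Kernel and cokernel balance the Euler characteristics. -/
theorem euler_map {A B : X.Modules} (f : A ⟶ B) (hA : Coh.IsCoh A) (hB : Coh.IsCoh B) :
    Curv2.euler k X A + Curv2.euler k X (cokernel f) = Curv2.euler k X (kernel f) + Curv2.euler k X B := by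
  haveI := H28Int.isNoetherian k (X := X)
  have hK := H10Coh.isCoh_kernel f hA hB.1
  have hQ := H10Coh.isCoh_cokernel f hA.1 hB
  have hI := H10Coh.isCoh_kernel (cokernel.π f) hB hQ.1
  have hS₁ : (ShortComplex.mk (kernel.ι f) (Abelian.factorThruImage f)
      (by rw [← cancel_mono (Abelian.image.ι f), Category.assoc, Abelian.image.fac, kernel.condition,
        zero_comp])).ShortExact :=
    { exact := ShortComplex.exact_of_f_is_kernel _ (KernelFork.IsLimit.ofι' _ _ fun g hg =>
        ⟨kernel.lift f g (by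
          rw [← Abelian.image.fac f, ← Category.assoc, hg, zero_comp]), kernel.lift_ι _ _ _⟩)
      epi_g := inferInstanceAs (Epi (Abelian.factorThruImage f)) }
  have e1 : Curv2.euler k X A = Curv2.euler k X (kernel f) + Curv2.euler k X (kernel (cokernel.π f)) :=
    H25Euler.euler_add (k := k) hS₁ hK hA hI
  have e2 : Curv2.euler k X B = Curv2.euler k X (kernel (cokernel.π f)) + Curv2.euler k X (cokernel f) :=
    H25Euler.euler_add (k := k) (H10Coh.shortExact_kernel (cokernel.π f)) hI hB hQ
  omega

/-- Modules supported at closed points: the Euler characteristic is the number of sections. -/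
theorem euler_finite_support (hdim : topologicalKrullDim X ≤ 1) {Q : X.Modules} (hQ : Coh.IsCoh Q)
    (h : ∀ η : X, ¬ IsClosed ({η} : Set X) → Subsingleton (Q.presheaf.stalk η)) :
    Curv2.euler k X Q = (Module.finrank k (Coh.HH X Q 0) : ℤ) ∧ Subsingleton (Coh.HH X Q 1) := by
  haveI := H28Int.isNoetherian k (X := X)
  obtain ⟨-, -, h1⟩ := subsingleton_HH_one hQ h
  haveI := h1
  refine ⟨?_, h1⟩
  rw [H29RR.euler_eq_sub (k := k) hdim, Module.finrank_zero_of_subsingleton (R := k) (M := Coh.HH X Q 1)]
  simp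

/-- Sections lift along an epimorphism whose kernel has no first cohomology. -/
theorem surjective_h0_of_epi {Q Q' : X.Modules} (f : Q ⟶ Q') [Epi f] (h : Subsingleton (Coh.HH X (kernel f) 1)) :
    Function.Surjective (Canon.HHlin k f 0) :=
  H25Par.hhlin_surjective (k := k) (S := ShortComplex.mk (kernel.ι f) f (kernel.condition f))
    (H10Coh.shortExact_kernel f) h

/-- Among modules supported at closed points an epimorphism does not increase the Euler characteristic. -/
theorem euler_le_of_epi (hdim : topologicalKrullDim X ≤ 1) {Q Q' : X.Modules} (hQ : Coh.IsCoh Q)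
    (hQ' : Coh.IsCoh Q') (h : ∀ η : X, ¬ IsClosed ({η} : Set X) → Subsingleton (Q.presheaf.stalk η))
    (f : Q ⟶ Q') [Epi f] : Curv2.euler k X Q' ≤ Curv2.euler k X Q := by
  haveI := H28Int.isNoetherian k (X := X)
  have hK := H10Coh.isCoh_kernel f hQ hQ'.1
  have e : Curv2.euler k X Q = Curv2.euler k X (kernel f) + Curv2.euler k X Q' :=
    H25Euler.euler_add (k := k) (H10Coh.shortExact_kernel f) hK hQ hQ'
  obtain ⟨hk, -⟩ := euler_finite_support (k := k) hdim hK fun η hη =>
    H25Par.subsingleton_stalk_of_mono (kernel.ι f) (h η hη)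
  omega

variable [IsReduced X]

/-- The degree bound forced by a nonzero first cohomology of a submodule of finite colength. -/
theorem subsingleton_h1_sub (hdim : topologicalKrullDim X ≤ 1) (hp : IsPure (⊤ : Closeds X)) {ω : X.Modules}
    (hω : IsDualizing k ω) {L : X.Modules} (hL : PicF.IsInvertible L) {G : X.Modules} (hG : Coh.IsCoh G)
    (j : G ⟶ L) [Mono j] (hj : ∀ η : X, ¬ IsClosed ({η} : Set X) → Subsingleton ((cokernel j).presheaf.stalk η))
    (h : ∀ W : Closeds X, IsPure W → (W : Set X).Nonempty →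
      -2 * Curv2.euler k X (ClSub.quotMod (idl W)) + (Curv2.euler k X L - Curv2.euler k X G) < degW k W L) :
    Subsingleton (Coh.HH X G 1) := by
  haveI := H28Int.isNoetherian k (X := X)
  obtain ⟨hω₁, t, ht⟩ := id hω
  haveI := H10Coh.finite_HH_proper k X G hG 1
  by_contra hne
  rw [not_subsingleton_iff_nontrivial] at hne
  haveI := hne
  have hpos : 0 < Module.finrank k (Coh.HH X G 1) := Module.finrank_pos
  obtain ⟨φ, hφ⟩ : ∃ φ : G ⟶ ω, φ ≠ 0 := by
    by_contra hc
    push Not at hc
    haveI : Subsingleton (G ⟶ ω) := ⟨fun a b => (hc a).trans (hc b).symm⟩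
    rw [H17.GorCurve.finrank_h1 t ht hG, Module.finrank_zero_of_subsingleton] at hpos
    exact lt_irrefl _ hpos
  obtain ⟨W, hW, hWne, hsW⟩ := exists_sectionSupport (k := k) hp hdim hω₁ φ hφ
  let T := DerSch.stalkFunctor X
  have hT : ∀ {A B C : X.Modules} (f : A ⟶ B) (g : B ⟶ C) (η : X) (v : (T η).obj A),
      ((T η).map (f ≫ g)).hom v = ((T η).map g).hom (((T η).map f).hom v) := fun f g η v => by
    rw [Functor.map_comp, ModuleCat.hom_comp, LinearMap.comp_apply]
  have h0 : ∀ {A B : X.Modules} (η : X) (v : (T η).obj A), ((T η).map (0 : A ⟶ B)).hom v = 0 := fun η v => by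
    rw [Functor.map_zero]; rfl
  let C := H17.GorCurve.compl W
  haveI := epi_proj hL W
  haveI := epi_proj hω₁ C
  let q := j ≫ proj L W
  let π := proj ω C
  have hjb : ∀ η : X, ¬ IsClosed ({η} : Set X) → Function.Bijective ((T η).map j).hom := fun η hη => by
    refine ⟨(ModuleCat.mono_iff_injective ((T η).map j)).1 inferInstance, ?_⟩
    exact surjective_stalk_of_notMem_support j fun hx => hx (hj η hη)
  have hφinj : ∀ η : X, ¬ IsClosed ({η} : Set X) → η ∈ W →
      Function.Injective ((T η).map φ).hom ∧ Function.Surjective ((T η).map φ).hom := fun η hη hηW => by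
    obtain ⟨v, hv⟩ : ∃ v, ((T η).map φ).hom v ≠ 0 := by
      by_contra hc
      push Not at hc
      exact (hsW η hη).1 hηW (LinearMap.ext hc)
    have hjv : ((T η).map j).hom v ≠ 0 := fun h' => hv (by
      rw [(hjb η hη).1 (h'.trans (map_zero _).symm), map_zero])
    refine ⟨(injective_iff_map_eq_zero _).2 fun y hy => ?_, fun b => ?_⟩
    · obtain ⟨c, hc⟩ : ∃ c : X.presheaf.stalk η, c • ((T η).map j).hom v = ((T η).map j).hom y :=
        exists_smul_eq hdim hL hη hjv _
      have hy' : c • v = y := (hjb η hη).1 (by rw [map_smul, hc])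
      by_cases hc0 : c = 0
      · rw [← hy', hc0, zero_smul]
      · obtain ⟨d, hd⟩ := (isField_stalk hdim hη).mul_inv_cancel hc0
        refine absurd ?_ hv
        rw [← one_smul (X.presheaf.stalk η) v, ← hd, mul_comm, mul_smul, hy', map_smul, hy, smul_zero]
    · obtain ⟨c, hc⟩ : ∃ c : X.presheaf.stalk η, c • ((T η).map φ).hom v = b := exists_smul_eq hdim hω₁ hη hv b
      exact ⟨c • v, by rw [map_smul, hc]⟩
  have hφ0 : ∀ η : X, ¬ IsClosed ({η} : Set X) → η ∉ W → ((T η).map φ).hom = 0 := fun η hη hηW =>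
    not_not.1 fun hne' => hηW ((hsW η hη).2 hne')
  have hqinj : ∀ η : X, ¬ IsClosed ({η} : Set X) → η ∈ W → Function.Injective ((T η).map q).hom :=
    fun η hη hηW a b hab => (hjb η hη).1 ((bijective_stalk_proj hdim hL hη hηW).1 (by rw [← hT, ← hT]; exact hab))
  -- the two kernels agree
  have k1 : kernel.ι φ ≫ q = 0 := by
    refine hom_res_eq_zero hL hW _ fun η hm hn => LinearMap.ext fun v => ?_
    rw [hT, LinearMap.zero_apply, (hφinj η hn hm).1 (a₁ := ((T η).map (kernel.ι φ)).hom v) (a₂ := 0)
      (by rw [map_zero, ← hT, kernel.condition, h0]), map_zero]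
  have k2 : kernel.ι q ≫ φ = 0 := by
    refine H17.GorCurve.hom_eq_zero_of_nonclosed hp hω₁ _ fun η hη => LinearMap.ext fun v => ?_
    rw [hT, LinearMap.zero_apply]
    by_cases hηW : η ∈ W
    · rw [hqinj η hη hηW (a₁ := ((T η).map (kernel.ι q)).hom v) (a₂ := 0)
        (by rw [map_zero, ← hT, kernel.condition, h0]), map_zero]
    · rw [hφ0 η hη hηW, LinearMap.zero_apply]
  let eK : kernel φ ≅ kernel q :=
    { hom := kernel.lift q (kernel.ι φ) k1
      inv := kernel.lift φ (kernel.ι q) k2
      hom_inv_id := by rw [← cancel_mono (kernel.ι φ)]; simp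
      inv_hom_id := by rw [← cancel_mono (kernel.ι q)]; simp }
  -- the morphism lands in the part of `ω` vanishing on the complement
  have hφC : φ ≫ π = 0 := by
    refine hom_res_eq_zero hω₁ (H17.GorCurve.isPure_compl hp W) _ fun η hm hn => LinearMap.ext fun v => ?_
    rw [hT, LinearMap.zero_apply, hφ0 η hn (fun hW' => (mem_iff_notMem_compl hdim hp W hn).1 hW' hm),
      LinearMap.zero_apply, map_zero]
  let φ' := kernel.lift π φ hφC
  have eK' : kernel φ' ≅ kernel φ := (kernelCompMono φ' (kernel.ι π)).symm ≪≫ kernelIsoOfEq (kernel.lift_ι π φ hφC)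
  have hR : Coh.IsCoh (res L W) := isCoh_res hL W
  have hωc := H11Ample.isCoh_of_isInvertible hω₁
  have hLc := H11Ample.isCoh_of_isInvertible hL
  have hπ : Coh.IsCoh (kernel π) := H10Coh.isCoh_kernel π hωc (isCoh_res hω₁ C).1
  have hcq : Coh.IsCoh (cokernel q) := H10Coh.isCoh_cokernel q hG.1 hR
  have hcj : Coh.IsCoh (cokernel j) := H10Coh.isCoh_cokernel j hG.1 hLc
  have hcφ : Coh.IsCoh (cokernel φ') := H10Coh.isCoh_cokernel φ' hG.1 hπ
  have e1 := euler_map (k := k) q hG hR
  have e2 := euler_map (k := k) φ' hG hπ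
  have e3 : Curv2.euler k X (kernel φ') = Curv2.euler k X (kernel φ) := H25Euler.euler_congr eK'
  have e4 : Curv2.euler k X (kernel φ) = Curv2.euler k X (kernel q) := H25Euler.euler_congr eK
  have e5 := euler_map (k := k) j hG hLc
  have e6 : Curv2.euler k X (kernel j) = 0 := by
    refine (H28Int.isAddFn_euler k).zero ?_
    exact IsZero.of_mono_eq_zero (kernel.ι j) (by rw [← cancel_mono j, kernel.condition, zero_comp])
  have e7 : Curv2.euler k X (cokernel q) ≤ Curv2.euler k X (cokernel j) := by
    have hw : j ≫ proj L W ≫ cokernel.π q = 0 := (Category.assoc _ _ _).symm.trans (cokernel.condition q)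
    haveI : Epi (cokernel.desc j (proj L W ≫ cokernel.π q) hw) :=
      epi_of_epi_fac (cokernel.π_desc j (proj L W ≫ cokernel.π q) hw)
    exact euler_le_of_epi (k := k) hdim hcj hcq hj (cokernel.desc j (proj L W ≫ cokernel.π q) hw)
  have e8 : 0 ≤ Curv2.euler k X (cokernel φ') := by
    have hz : ∀ η : X, ¬ IsClosed ({η} : Set X) → Subsingleton ((cokernel φ').presheaf.stalk η) := fun η hη => by
      have hsur : Function.Surjective ((T η).map φ').hom := fun b => by
        have hιi := (ModuleCat.mono_iff_injective ((T η).map (kernel.ι π))).1 inferInstance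
        by_cases hηW : η ∈ W
        · obtain ⟨a, ha⟩ := (hφinj η hη hηW).2 (((T η).map (kernel.ι π)).hom b)
          exact ⟨a, hιi (by rw [← hT, kernel.lift_ι, ha])⟩
        · have hηC : η ∈ C := H17.GorCurve.mem_compl_of_notMem hηW
          refine ⟨0, ?_⟩
          rw [map_zero]
          refine hιi ((bijective_stalk_proj hdim hω₁ hη hηC).1 ?_)
          rw [← hT, ← hT, kernel.condition, h0, h0]
      haveI : Subsingleton ((T η).obj (cokernel φ')) := subsingleton_of_forall_eq 0 fun c => by
        obtain ⟨l, rfl⟩ := (ModuleCat.epi_iff_surjective _).1 (inferInstance : Epi ((T η).map (cokernel.π φ'))) c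
        obtain ⟨a, rfl⟩ := hsur l
        rw [← hT, cokernel.condition, h0]
      exact ‹_›
    rw [(euler_finite_support (k := k) hdim hcφ hz).1]
    exact Int.natCast_nonneg _
  have e9 : Curv2.euler k X ω = Curv2.euler k X (kernel π) + Curv2.euler k X (res ω C) :=
    H25Euler.euler_add (k := k) (H10Coh.shortExact_kernel π) hπ hωc (isCoh_res hω₁ C)
  have e10 := H17.GorCurve.euler_res_compl (k := k) hdim hp hω₁ W
  have e11 := H17.GorCurve.degW_omega_delta t ht hω₁ hdim hp hW
  have e12 := h W hW hWne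
  simp only [degW, C] at *
  omega

variable [IsAlgClosed k]

/-- A nonzero module supported at one point has a quotient with one section. -/
theorem exists_quotient_one_section (hdim : topologicalKrullDim X ≤ 1) {x : X} (hx : IsClosed ({x} : Set X))
    {C : X.Modules} (hC : Coh.IsCoh C) (hsupp : CohB1.support C ⊆ {x}) (hne : x ∈ CohB1.support C) :
    ∃ (Q : X.Modules) (π : C ⟶ Q), Epi π ∧ Coh.IsCoh Q ∧ CohB1.support Q ⊆ {x} ∧
      Module.finrank k (Coh.HH X Q 0) = 1 := by
  classical
  haveI := H28Int.isNoetherian k (X := X)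
  let P : ℕ → Prop := fun m => ∃ (Q : X.Modules) (π : C ⟶ Q), Epi π ∧ Coh.IsCoh Q ∧ x ∈ CohB1.support Q ∧
    CohB1.support Q ⊆ {x} ∧ Module.finrank k (Coh.HH X Q 0) = m
  have hex : ∃ m, P m := ⟨_, C, 𝟙 C, inferInstance, hC, hne, hsupp, rfl⟩
  obtain ⟨Q, π, hπ, hQ, hxQ, hQs, hm⟩ := Nat.find_spec hex
  refine ⟨Q, π, hπ, hQ, hQs, ?_⟩
  haveI := hπ
  haveI := H10Coh.finite_HH_proper k X Q hQ 0
  have hfin : (CohB1.support Q).Finite := (Set.finite_singleton x).subset hQs
  have hcl : ∀ z ∈ CohB1.support Q, IsClosed ({z} : Set X) := fun z hz => by rw [hQs hz]; exact hx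
  have hge : 1 ≤ Module.finrank k (Coh.HH X Q 0) := by
    refine le_trans ?_ (ncard_support_le (k := k) hQ hfin hcl)
    exact Nat.one_le_iff_ne_zero.2 (Set.ncard_ne_zero_of_mem hxQ hfin)
  by_contra hne1
  -- every nonzero section generates the stalk
  have hgenall : ∀ v : Coh.HH X Q 0, v ≠ 0 →
      Function.Surjective fun a : X.presheaf.stalk x => a • Q.presheaf.germ ⊤ x trivial (sec Q v) := fun v hv => by
    let s := H11Tilde.homOfGlobal Q (sec Q v)
    have hQ' : Coh.IsCoh (cokernel s) := H10Coh.isCoh_cokernel s (H10Coh.isCoh_structureModule' X).1 hQ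
    have hxs : x ∉ CohB1.support (cokernel s) := fun hxs => by
      have hs' : CohB1.support (cokernel s) ⊆ {x} := (LeadDev.support_subset_of_epi (cokernel.π s)).trans hQs
      haveI : Epi (π ≫ cokernel.π s) := epi_comp _ _
      have hle := Nat.find_min' hex ⟨cokernel s, π ≫ cokernel.π s, inferInstance, hQ', hxs, hs', rfl⟩
      rw [← hm] at hle
      have hsur : Function.Surjective (Canon.HHlin k (cokernel.π s) 0) := by
        obtain ⟨-, hh⟩ := euler_finite_support (k := k) hdim (H10Coh.isCoh_kernel (cokernel.π s) hQ hQ'.1)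
          fun η hη => H25Par.subsingleton_stalk_of_mono (kernel.ι (cokernel.π s))
            (not_not.1 fun h' => hη (hcl η h'))
        exact surjective_h0_of_epi (k := k) (cokernel.π s) hh
      have hker : v ∈ LinearMap.ker (Canon.HHlin k (cokernel.π s) 0) := by
        rw [LinearMap.mem_ker]
        refine (sec (cokernel s)).injective ?_
        rw [sec_natural (k := k), map_zero]
        have h1 : (s ≫ cokernel.π s).app ⊤ (1 : Γ(X, ⊤)) = 0 := by rw [cokernel.condition]; rfl
        rw [← h1]
        show (cokernel.π s).app ⊤ (sec Q v) = (cokernel.π s).app ⊤ (s.app ⊤ (1 : Γ(X, ⊤)))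
        refine congrArg _ ?_
        exact ((H11Tilde.homOfGlobal_app Q _ ⊤ _).trans ((one_smul _ _).trans
          (ConcreteCategory.congr_hom (Q.presheaf.map_id (op ⊤)) _))).symm
      have hrk := LinearMap.finrank_range_add_finrank_ker (Canon.HHlin k (cokernel.π s) 0)
      rw [LinearMap.range_eq_top.2 hsur, finrank_top] at hrk
      have : 0 < Module.finrank k (LinearMap.ker (Canon.HHlin k (cokernel.π s) 0)) :=
        Module.finrank_pos_iff_exists_ne_zero.2 ⟨⟨v, hker⟩, fun h' => hv (congrArg Subtype.val h')⟩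
      omega
    intro b
    obtain ⟨r, hr⟩ := surjective_stalk_of_notMem_support s hxs b
    obtain ⟨a, ha⟩ := (H11Ample.isGen_one (X := X) ⊤ x trivial).2 r
    refine ⟨a, ?_⟩
    rw [← hr, ← ha, map_smul]
    refine congrArg (a • ·) ?_
    refine Eq.symm ((H06Mod.stalkLin_germ s x ⊤ trivial (H11Ample.one ⊤)).trans (congrArg _ ?_))
    exact (H11Tilde.homOfGlobal_app Q _ ⊤ _).trans ((one_smul _ _).trans
      (ConcreteCategory.congr_hom (Q.presheaf.map_id (op ⊤)) _))
  -- two independent sections
  haveI : Nontrivial (Coh.HH X Q 0) := Module.nontrivial_of_finrank_pos (R := k) (by omega)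
  obtain ⟨v, hv⟩ := exists_ne (0 : Coh.HH X Q 0)
  obtain ⟨w, hw⟩ : ∃ w : Coh.HH X Q 0, w ∉ Submodule.span k ({v} : Set (Coh.HH X Q 0)) := by
    by_contra hc
    push Not at hc
    have h1 := finrank_span_singleton (K := k) hv
    rw [show Submodule.span k ({v} : Set (Coh.HH X Q 0)) = ⊤ from eq_top_iff.2 fun z _ => hc z, finrank_top] at h1
    exact hne1 h1
  let g : Coh.HH X Q 0 → Q.presheaf.stalk x := fun z => Q.presheaf.germ ⊤ x trivial (sec Q z)
  obtain ⟨a, ha⟩ := hgenall v hv (g w)
  obtain ⟨c, hc⟩ : ∃ c : k, algebraMap k (X.residueField x) c = X.residue x a := by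
    have h1 : Module.finrank k (X.residueField x) = 1 := H29RR.finrank_residue_eq_one (k := k) hx
    obtain ⟨c, hc⟩ := exists_smul_eq_of_finrank_eq_one h1 (one_ne_zero (α := X.residueField x)) (X.residue x a)
    exact ⟨c, by rwa [Algebra.smul_def, mul_one] at hc⟩
  let a' : X.presheaf.stalk x := a - X.presheaf.germ ⊤ x trivial (H10Coh.globA (A := k) (X := X) c)
  have ha' : a' ∈ IsLocalRing.maximalIdeal (X.presheaf.stalk x) := by
    rw [← IsLocalRing.residue_eq_zero_iff]
    show X.residue x (a - X.presheaf.germ ⊤ x trivial _) = 0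
    rw [map_sub, sub_eq_zero, ← hc]
    rfl
  have hu : w - c • v ≠ 0 := fun h' => hw (by
    rw [sub_eq_zero] at h'
    rw [h']
    exact Submodule.smul_mem _ _ (Submodule.mem_span_singleton_self v))
  obtain ⟨b, hb⟩ := hgenall _ hu (g v)
  have hgu : g (w - c • v) = a' • g v := by
    show Q.presheaf.germ ⊤ x trivial (sec Q (w - c • v)) = a' • g v
    rw [map_sub, sec_smul, map_sub, H17.AssPts.germ_smul', sub_smul]
    exact congrArg (· - _) ha.symm
  have hz : (1 - b * a') • g v = 0 := by
    rw [sub_smul, one_smul, mul_smul, ← hgu]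
    exact sub_eq_zero.2 hb.symm
  have hunit : IsUnit (1 - b * a') :=
    IsLocalRing.notMem_maximalIdeal.1 fun hm' => (IsLocalRing.maximalIdeal.isMaximal _).ne_top
      ((Ideal.eq_top_iff_one _).2 (by
        have := Ideal.add_mem _ hm' (Ideal.mul_mem_left _ b ha')
        rwa [sub_add_cancel] at this))
  have hv0 : g v = 0 := hunit.smul_eq_zero.1 hz
  refine (not_subsingleton_iff_nontrivial.2 (not_subsingleton_iff_nontrivial.1 hxQ)) (subsingleton_of_forall_eq 0 fun z => ?_)
  obtain ⟨r, rfl⟩ := hgenall v hv z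
  show r • g v = 0
  rw [hv0, smul_zero]

/-- Submodules of colength at most one are spanned by their sections at closed points. -/
theorem spansAt_sub (hdim : topologicalKrullDim X ≤ 1) (hp : IsPure (⊤ : Closeds X)) {ω : X.Modules}
    (hω : IsDualizing k ω) {L : X.Modules} (hL : PicF.IsInvertible L)
    (hL2 : ∀ W : Closeds X, IsPure W → (W : Set X).Nonempty →
      -2 * Curv2.euler k X (ClSub.quotMod (idl W)) + 2 < degW k W L)
    {G : X.Modules} (hG : Coh.IsCoh G) (j : G ⟶ L) [Mono j]
    (hj : ∀ η : X, ¬ IsClosed ({η} : Set X) → Subsingleton ((cokernel j).presheaf.stalk η))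
    (hχ : Curv2.euler k X L - Curv2.euler k X G ≤ 1) {x : X} (hx : IsClosed ({x} : Set X)) : SpansAt G x := by
  haveI := H28Int.isNoetherian k (X := X)
  haveI := H10Coh.finite_HH_proper k X G hG 0
  have h1G := subsingleton_h1_sub (k := k) hdim hp hω hL hG j hj fun W hW hne => by
    have := hL2 W hW hne
    omega
  let n := Module.finrank k (Coh.HH X G 0)
  let β := Module.finBasis k (Coh.HH X G 0)
  let φ : FlatMod.freeMod X n ⟶ G := Sigma.desc fun i => H11Tilde.homOfGlobal G (sec G (β i))
  have hfree : SpansAt (FlatMod.freeMod X n) x := by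
    rw [SpansAt, eq_top_iff, ← spansStalks_of_epi (𝟙 (FlatMod.freeMod X n)) x]
    refine Submodule.span_mono ?_
    rintro _ ⟨i, rfl⟩
    exact ⟨_, rfl⟩
  refine spansAt_of_surjective φ hfree (surjective_stalk_of_notMem_support φ fun hxC => ?_)
  have hO : Coh.IsCoh (FlatMod.freeMod X n) :=
    H16Derived.KFlat.Stalk.isCoh_of_isFinLocFree (H22Alg.KModel.finLocFree_free n)
  have hC : Coh.IsCoh (cokernel φ) := H10Coh.isCoh_cokernel φ hO.1 hG
  let Z := ptIdeal x
  have hZc : Coh.IsCoh (ClSub.quotMod Z) := LeadDev.isCoh_push_structure Z.subschemeι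
  have hZs : CohB1.support (ClSub.quotMod Z) = {x} := by
    rw [mem_support_quot, ← Scheme.IdealSheafData.range_subschemeι, range_subscheme_pt hx]
  let C₀ := ParSh.resD Z (cokernel φ)
  have hC₀ : Coh.IsCoh C₀ := H10Coh.TT.isCoh_tensorMod hC hZc
  have hC₀s : CohB1.support C₀ = CohB1.support (cokernel φ) ∩ CohB1.support (ClSub.quotMod Z) :=
    H17.SuppTensor.support_tensor _ _ hC.2 hZc.2
  rw [hZs] at hC₀s
  haveI := epi_resProj Z (cokernel φ)
  obtain ⟨Q, π₀, hπ₀, hQ, hQs, hQ1⟩ := exists_quotient_one_section (k := k) hdim hx hC₀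
    (hC₀s.le.trans Set.inter_subset_right) (hC₀s.ge ⟨hxC, rfl⟩)
  haveI := hπ₀
  let ψ : G ⟶ Q := cokernel.π φ ≫ H25Par.resProj Z (cokernel φ) ≫ π₀
  haveI : Epi ψ := epi_comp' inferInstance (epi_comp' inferInstance inferInstance)
  have hQz : ∀ η : X, ¬ IsClosed ({η} : Set X) → Subsingleton (Q.presheaf.stalk η) := fun η hη =>
    not_not.1 fun h' => hη (by rw [hQs h']; exact hx)
  have hK : Coh.IsCoh (kernel ψ) := H10Coh.isCoh_kernel ψ hG hQ.1
  have eQ : Curv2.euler k X G = Curv2.euler k X (kernel ψ) + Curv2.euler k X Q :=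
    H25Euler.euler_add (k := k) (H10Coh.shortExact_kernel ψ) hK hG hQ
  rw [(euler_finite_support (k := k) hdim hQ hQz).1, hQ1] at eQ
  haveI : Mono (kernel.ι ψ ≫ j) := mono_comp _ _
  have hLc := H11Ample.isCoh_of_isInvertible hL
  have hz : ∀ η : X, ¬ IsClosed ({η} : Set X) → Subsingleton ((cokernel (kernel.ι ψ ≫ j)).presheaf.stalk η) := by
    intro η hη
    have h1 : Function.Surjective (H06Mod.stalkLin (kernel.ι ψ) η) :=
      (bijective_stalk_kernelι ψ (hQz η hη)).2
    have h2 : Function.Surjective (H06Mod.stalkLin j η) :=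
      surjective_stalk_of_notMem_support j fun hx' => hx' (hj η hη)
    have h3 : Function.Surjective (((DerSch.stalkFunctor X η).map (kernel.ι ψ ≫ j)).hom) := fun b => by
      obtain ⟨y, hy⟩ := h2 b
      obtain ⟨z, rfl⟩ := h1 y
      exact ⟨z, (H29RR.stalkLin_comp (kernel.ι ψ) j η z).trans hy⟩
    haveI : Subsingleton ((DerSch.stalkFunctor X η).obj (cokernel (kernel.ι ψ ≫ j))) :=
      subsingleton_of_forall_eq 0 fun c => by
        obtain ⟨l, rfl⟩ := (ModuleCat.epi_iff_surjective _).1
          (inferInstance : Epi ((DerSch.stalkFunctor X η).map (cokernel.π (kernel.ι ψ ≫ j)))) c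
        obtain ⟨a, rfl⟩ := h3 l
        rw [← LinearMap.comp_apply, ← ModuleCat.hom_comp, ← Functor.map_comp, cokernel.condition, Functor.map_zero]
        rfl
    exact ‹_›
  have h1K := subsingleton_h1_sub (k := k) hdim hp hω hL hK (kernel.ι ψ ≫ j) hz fun W hW hne => by
    have := hL2 W hW hne
    omega
  let a : FlatMod.freeMod X n ⟶ kernel ψ := kernel.lift ψ φ (by
    rw [← Category.assoc, cokernel.condition, zero_comp])
  have hsurj : Function.Surjective (Canon.HHlin k (kernel.ι ψ) 0) := by
    rw [← LinearMap.range_eq_top, eq_top_iff, ← β.span_eq, Submodule.span_le]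
    rintro _ ⟨i, rfl⟩
    refine ⟨(sec (kernel ψ)).symm ((Sigma.ι (fun _ : Fin n => Coh.structureModule X) i ≫ a).app ⊤ (1 : Γ(X, ⊤))),
      (sec G).injective ?_⟩
    rw [sec_natural (k := k), AddEquiv.apply_symm_apply]
    show ((Sigma.ι (fun _ : Fin n => Coh.structureModule X) i ≫ a) ≫ kernel.ι ψ).app ⊤ (1 : Γ(X, ⊤)) = _
    rw [Category.assoc, kernel.lift_ι, Sigma.ι_desc]
    exact (H11Tilde.homOfGlobal_app G _ ⊤ _).trans ((one_smul _ _).trans
      (ConcreteCategory.congr_hom (G.presheaf.map_id (op ⊤)) _))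
  haveI := H10Coh.finite_HH_proper k X (kernel ψ) hK 0
  have hle := LinearMap.finrank_range_le (Canon.HHlin k (kernel.ι ψ) 0)
  rw [LinearMap.range_eq_top.2 hsurj, finrank_top] at hle
  haveI := h1G
  haveI := h1K
  have eG := H29RR.euler_eq_sub (k := k) hdim G
  have eK := H29RR.euler_eq_sub (k := k) hdim (kernel ψ)
  rw [Module.finrank_zero_of_subsingleton (R := k) (M := Coh.HH X G 1)] at eG
  rw [Module.finrank_zero_of_subsingleton (R := k) (M := Coh.HH X (kernel ψ) 1)] at eK
  omega

end Groth.Agent.H23Gor
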