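import Groth.Agent.H23Gor.Vanishing
import Groth.Agent.H23Gor.Pointed
import Groth.Agent.H22Alg.MumfordQuot
import Groth.Agent.H22Alg.CurveReg

/-!
# Sections of invertible modules on nodal curves and trees of rational curves
-/

set_option autoImplicit false
set_option linter.style.haveILetI false
set_option linter.unusedSectionVars false
set_option backward.isDefEq.respectTransparency false
set_option synthInstance.maxHeartbeats 400000
set_option maxHeartbeats 1000000

universe u

open CategoryTheory CategoryTheory.Limits AlgebraicGeometry TopologicalSpace Opposite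
open Groth.Agent.H29RR Groth.Agent.H29CurveDual Groth.Agent.H29CurveDual.Subcurve

attribute [local instance] HasDerivedCategory.standard

namespace Groth.Agent.H23Gor

attribute [local instance 10000] H10Coh.hasSheafifyAb H10Coh.hasWeakSheafifyAb H10Coh.hasExtAb H10Coh.enoughInjAb
attribute [local irreducible] Curv2.euler

open Groth.Agent.H17.GorCurve (overJ degJ degW delta deltaJ IsDualizing mem_compl_of_notMem mem_iff_notMem_compl)

variable {k : Type u} [Field k] {X : Scheme.{u}} [X.Over (Spec (CommRingCat.of k))]
  [IsProper (X ↘ Spec (CommRingCat.of k))] [IsReduced X] [ConnectedSpace X]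

/-- On a connected curve a module of degree zero with nonnegative degrees on the components is trivial as
soon as it has a section. -/
theorem iso_of_deg_zero (hdim : topologicalKrullDim X = 1) {L : X.Modules} (hL : PicF.IsInvertible L)
    (hdeg : Curv2.deg k X L 1 = 0)
    (hnn : ∀ η : X, ¬ IsClosed ({η} : Set X) → 0 ≤ degW k (⟨closure {η}, isClosed_closure⟩ : Closeds X) L)
    (s : Coh.structureModule X ⟶ L) (hs : s ≠ 0) : IsIso s := by
  haveI := H28Int.isNoetherian k (X := X)
  have hp : IsPure (⊤ : Closeds X) := isPure_top hdim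
  have hO := H11Ample.isInvertible_structureModule (X := X)
  obtain ⟨W, hW, hne, hsW⟩ := exists_sectionSupport (k := k) hp hdim.le hL s hs
  have h1 := delta_le_degW (k := k) hdim.le hp hL s hW hsW
  have h2 : degW k W L + degW k (H17.GorCurve.compl W) L = 0 :=
    (H17.GorCurve.degW_add_compl (k := k) hdim.le hp hL W).trans hdeg
  have h3 : 0 ≤ degW k (H17.GorCurve.compl W) L := degW_nonneg hdim.le hL fun η _ hη => hnn η hη
  have hδ : delta k W ≤ 0 := by omega
  have hcl : IsClopen (W : Set X) := by
    refine ⟨W.isClosed, ?_⟩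
    rw [show (W : Set X) = (H17.GorCurve.compl W : Set X)ᶜ from Set.ext fun y =>
      ⟨fun hy hy' => absurd (H17.GorCurve.delta_pos (k := k) hdim.le hp hy hy') (by omega),
        fun hy => not_not.1 fun h => hy (mem_compl_of_notMem h)⟩]
    exact (H17.GorCurve.compl W).isClosed.isOpen_compl
  have hWu : (W : Set X) = Set.univ := (isClopen_iff.1 hcl).resolve_left hne.ne_empty
  let T := DerSch.stalkFunctor X
  have hmono : Mono s := by
    refine Preadditive.mono_of_kernel_zero (H17.GorCurve.hom_eq_zero_of_nonclosed hp hO _ fun η hη => ?_)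
    refine LinearMap.ext fun v => ?_
    rw [LinearMap.zero_apply]
    by_contra hv
    refine (hsW η hη).1 (hWu.ge (Set.mem_univ η)) (LinearMap.ext fun w => ?_)
    obtain ⟨c, hc⟩ : ∃ c : X.presheaf.stalk η, c • ((T η).map (kernel.ι s)).hom v = w :=
      exists_smul_eq hdim.le hO hη hv w
    rw [LinearMap.zero_apply, ← hc, map_smul, ← LinearMap.comp_apply, ← ModuleCat.hom_comp, ← Functor.map_comp,
      kernel.condition, Functor.map_zero]
    exact smul_zero c
  haveI := hmono
  let Q := cokernel s
  have hLc := H11Ample.isCoh_of_isInvertible hL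
  have hQ : Coh.IsCoh Q := H10Coh.isCoh_cokernel s (H10Coh.isCoh_structureModule' X).1 hLc
  have hQz : ∀ η : X, ¬ IsClosed ({η} : Set X) → Subsingleton (Q.presheaf.stalk η) := fun η hη => by
    have hsur : Function.Surjective ((T η).map s).hom := fun b => by
      obtain ⟨v, hv⟩ : ∃ v, ((T η).map s).hom v ≠ 0 := by
        by_contra hc
        push Not at hc
        exact (hsW η hη).1 (hWu.ge (Set.mem_univ η)) (LinearMap.ext hc)
      obtain ⟨c, hc⟩ : ∃ c : X.presheaf.stalk η, c • (((T η).map s).hom v) = b := exists_smul_eq hdim.le hL hη hv b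
      exact ⟨c • v, by rw [map_smul, hc]⟩
    haveI : Subsingleton ((T η).obj Q) := subsingleton_of_forall_eq 0 fun q => by
      obtain ⟨l, rfl⟩ := (ModuleCat.epi_iff_surjective _).1 (inferInstance : Epi ((T η).map (cokernel.π s))) q
      obtain ⟨a, rfl⟩ := hsur l
      rw [← LinearMap.comp_apply, ← ModuleCat.hom_comp, ← Functor.map_comp, cokernel.condition, Functor.map_zero]
      rfl
    exact ‹_›
  obtain ⟨hfin, hc, h1Q⟩ := subsingleton_HH_one hQ hQz
  haveI := h1Q
  have hS : (ShortComplex.mk s (cokernel.π s) (cokernel.condition s)).ShortExact :=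
    { exact := ShortComplex.exact_cokernel _ }
  have e1 : Curv2.euler k X L = Curv2.euler k X (Coh.structureModule X) + Curv2.euler k X Q :=
    H25Euler.euler_add (k := k) hS (H10Coh.isCoh_structureModule' X) hLc hQ
  have e2 := H29RR.euler_eq_sub (k := k) hdim.le Q
  rw [Module.finrank_zero_of_subsingleton (R := k) (M := Coh.HH X Q 1)] at e2
  rw [H29RR.deg_def] at hdeg
  have hcard := ncard_support_le (k := k) hQ hfin hc
  have hemp : CohB1.support Q = ∅ := (Set.ncard_eq_zero hfin).1 (by omega)
  have hz : IsZero Q := H16Derived.KFlat.Stalk.isZero_of_stalk fun y =>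
    (H25Euler.notMem_support_iff _ y).1 (by rw [hemp]; exact Set.notMem_empty y)
  haveI : Epi s := Preadditive.epi_of_cokernel_zero (hz.eq_of_tgt _ _)
  exact isIso_of_mono_of_epi s

/-- Curves without higher cohomology of the structure sheaf have none on their subcurves. -/
theorem subcurve_genus_zero (hdim : topologicalKrullDim X = 1)
    (hg : Subsingleton (Coh.HH X (Coh.structureModule X) 1)) (W : Closeds X) :
    Module.finrank k (Coh.HH X (ClSub.quotMod (idl W)) 1) = 0 := by
  haveI := H28Int.isNoetherian k (X := X)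
  haveI := H10Coh.epi_toSubscheme (idl W)
  haveI := hg
  haveI : Subsingleton (Coh.HH X (ClSub.quotMod (idl W)) 1) := subsingleton_of_forall_eq 0 fun y => by
    have hπ : cokernel.π (ClSub.toSubscheme (idl W)) = 0 := cokernel.π_of_epi _
    obtain ⟨z, rfl⟩ := ker_le_range_hhlin (k := k) hdim.le (ClSub.toSubscheme (idl W))
      (show y ∈ LinearMap.ker _ by rw [LinearMap.mem_ker, hπ, H29RR.hhlin_zero])
    rw [Subsingleton.elim z 0, map_zero]
  exact Module.finrank_zero_of_subsingleton

/-- The Euler characteristic of a nonempty subcurve of a curve of genus zero is positive. -/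
theorem euler_subcurve_pos (hdim : topologicalKrullDim X = 1)
    (hg : Subsingleton (Coh.HH X (Coh.structureModule X) 1)) {W : Closeds X} (hne : (W : Set X).Nonempty) :
    0 < Curv2.euler k X (ClSub.quotMod (idl W)) := by
  haveI := H28Int.isNoetherian k (X := X)
  rw [H29RR.euler_eq_sub (k := k) hdim.le, subcurve_genus_zero (k := k) hdim hg W, finrank_gamma (idl W)]
  letI := H22Alg.GlobalFunctions.algΓ (strJ k (idl W))
  haveI : Module.Finite k Γ((idl W).subscheme, ⊤) := finite_gamma (idl W)
  haveI : Nonempty (idl W).subscheme := by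
    obtain ⟨x, hx⟩ := hne
    rw [← Scheme.IdealSheafData.coe_support_vanishingIdeal, ← Scheme.IdealSheafData.range_subschemeι] at hx
    obtain ⟨y, -⟩ := hx
    exact ⟨y⟩
  haveI : Nontrivial Γ((idl W).subscheme, ⊤) :=
    @Scheme.component_nontrivial _ ⊤ ⟨⟨Classical.arbitrary _, trivial⟩⟩
  have : 0 < Module.finrank k Γ((idl W).subscheme, ⊤) := Module.finrank_pos
  simp only [Nat.cast_zero, sub_zero]
  exact_mod_cast this

/-- Vanishing of sections in genus zero: the degrees exceed those of the dualizing module by at most one,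
on at most one component. -/
theorem subsingleton_h0_of_bounds (hdim : topologicalKrullDim X = 1)
    (hg : Subsingleton (Coh.HH X (Coh.structureModule X) 1)) {ω : X.Modules} (hω : IsDualizing k ω)
    {L : X.Modules} (hL : PicF.IsInvertible L) (E₀ : Set X)
    (hle : ∀ η : X, ¬ IsClosed ({η} : Set X) →
      degW k (⟨closure {η}, isClosed_closure⟩ : Closeds X) L ≤
        degW k (⟨closure {η}, isClosed_closure⟩ : Closeds X) ω + (open scoped Classical in if closure ({η} : Set X) = E₀ then 1 else 0)) :
    Subsingleton (Coh.HH X L 0) := by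
  classical
  haveI := H28Int.isNoetherian k (X := X)
  refine subsingleton_of_forall_eq 0 fun v => ?_
  by_contra hv
  have hp : IsPure (⊤ : Closeds X) := isPure_top hdim
  obtain ⟨W, hW, hne, hsW⟩ := exists_sectionSupport (k := k) hp hdim.le hL _ (mulH_ne_zero_arg hv)
  have h1 := delta_le_degW (k := k) hdim.le hp hL _ hW hsW
  let T := ((finite_nonclosed (X := X) hdim.le).inter_of_right (W : Set X)).toFinset
  have hT : ∀ η, η ∈ T ↔ η ∈ W ∧ ¬ IsClosed ({η} : Set X) := fun η => Set.Finite.mem_toFinset _
  obtain ⟨hω₁, t, ht⟩ := hω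
  have h2 := degW_eq_sum (k := k) hdim.le hL W T hT
  have h3 := degW_eq_sum (k := k) hdim.le hω₁ W T hT
  have h4 : ∑ η ∈ T, (if closure ({η} : Set X) = E₀ then (1 : ℤ) else 0) ≤ 1 := by
    rw [Finset.sum_boole]
    have : (T.filter fun η => closure ({η} : Set X) = E₀).card ≤ 1 := Finset.card_le_one.2 fun a ha b hb => by
      rw [Finset.mem_filter] at ha hb
      have he := ha.2.trans hb.2.symm
      exact ((specializes_iff_mem_closure.2 (he.ge (subset_closure rfl) : b ∈ closure ({a} : Set X))).antisymm
        (specializes_iff_mem_closure.2 (he.le (subset_closure rfl) : a ∈ closure ({b} : Set X)))).eq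
    exact_mod_cast this
  have h5 : degW k W L ≤ degW k W ω + 1 := by
    rw [h2, h3]
    refine (Finset.sum_le_sum fun η hη => hle η ((hT η).1 hη).2).trans ?_
    rw [Finset.sum_add_distrib]
    exact Int.add_le_add_left h4 _
  have h6 := H17.GorCurve.degW_omega_delta t ht hω₁ hdim.le hp hW
  have h7 := euler_subcurve_pos (k := k) hdim hg hne
  omega

/-- A globally generated invertible module has nonnegative degree on the components. -/
theorem degJ_nonneg_of_gg (hdim : topologicalKrullDim X = 1) {L : X.Modules} (hL : PicF.IsInvertible L)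
    (hgg : Curv2.IsGloballyGenerated L) {η : X} (hη : ¬ IsClosed ({η} : Set X)) :
    0 ≤ degJ k (idl (⟨closure {η}, isClosed_closure⟩ : Closeds X)) L := by
  haveI := H28Int.isNoetherian k (X := X)
  let J := idl (⟨closure {η}, isClosed_closure⟩ : Closeds X)
  haveI : IsReduced J.subscheme := H17.isReduced_vanishingIdeal_subscheme _
  have hr : Set.range J.subschemeι = closure {η} := by
    rw [Scheme.IdealSheafData.range_subschemeι, Scheme.IdealSheafData.coe_support_vanishingIdeal]; rfl
  obtain ⟨a, ha⟩ : η ∈ Set.range J.subschemeι := hr.ge (subset_closure rfl)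
  have hdense : closure ({a} : Set J.subscheme) = Set.univ := by
    rw [J.subschemeι.isEmbedding.isInducing.closure_eq_preimage_closure_image, Set.image_singleton, ha, ← hr,
      Set.preimage_range]
  haveI : IrreducibleSpace J.subscheme := (irreducibleSpace_def _).2 (by rw [Set.top_eq_univ, ← hdense]; exact isIrreducible_singleton.closure)
  haveI : IsIntegral J.subscheme := isIntegral_of_irreducibleSpace_of_isReduced _
  letI := overJ k J
  haveI : IsProper (J.subscheme ↘ Spec (CommRingCat.of k)) := inferInstanceAs (IsProper (strJ k J))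
  haveI := H28Int.isNoetherian k (X := J.subscheme)
  have hP := H11Ample.isInvertible_pullback J.subschemeι hL
  obtain ⟨s, hs⟩ := H22Alg.CurveReg.exists_hom_ne_zero (H22Alg.MumfordQuot.isGloballyGenerated_pullback J.subschemeι hgg)
    fun hz => by
      obtain ⟨V, e, haV, he⟩ := H11Ample.exists_gen hP a
      haveI : Subsingleton ((((Scheme.Modules.pullback J.subschemeι).obj L)).presheaf.stalk a) :=
        AddCommGrpCat.subsingleton_of_isZero
          ((Scheme.Modules.toPresheaf J.subscheme ⋙ TopCat.Presheaf.stalkFunctor _ a).map_isZero hz)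
      exact zero_ne_one ((he a haV).1 (Subsingleton.elim _ _))
  exact (H29RR.deg_nonneg_of_hom (k := k)
    ((J.subschemeι.isEmbedding.isInducing.topologicalKrullDim_le).trans hdim.le) hP hs).1

include k in
/-- A point with a domain as local ring is on one component only. -/
theorem notMem_compl_of_isDomain (hdim : topologicalKrullDim X = 1) {W : Closeds X} (hW : IsPure W) {x : X}
    [IsDomain (X.presheaf.stalk x)] (hx : x ∈ W) : x ∉ H17.GorCurve.compl W := by
  haveI := H28Int.isNoetherian k (X := X)
  intro hx'
  have hp : IsPure (⊤ : Closeds X) := isPure_top hdim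
  have key : ∀ S : Closeds X, IsPure S → x ∈ S → X.fromSpecStalk x ⟨⊥, Ideal.isPrime_bot⟩ ∈ S ∧
      ¬ IsClosed ({X.fromSpecStalk x ⟨⊥, Ideal.isPrime_bot⟩} : Set X) := by
    intro S hS hxS
    have h1 := hS hxS
    rw [← Set.biUnion_of_singleton {η | η ∈ S ∧ ¬ IsClosed ({η} : Set X)},
      ((finite_nonclosed hdim.le).subset fun z hz => hz.2).closure_biUnion] at h1
    obtain ⟨η, hη, hηx⟩ := Set.mem_iUnion₂.1 h1
    obtain ⟨q, hq⟩ : η ∈ Set.range (X.fromSpecStalk x) := by
      rw [Scheme.range_fromSpecStalk]
      exact specializes_iff_mem_closure.2 hηx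
    have h2 : X.fromSpecStalk x ⟨⊥, Ideal.isPrime_bot⟩ ⤳ η := by
      rw [← hq]
      exact ((PrimeSpectrum.le_iff_specializes (⟨⊥, Ideal.isPrime_bot⟩ : PrimeSpectrum (X.presheaf.stalk x)) q).1
        bot_le).map (X.fromSpecStalk x).continuous
    rw [H8Props.mem_genericPoints_iff.1 (mem_genericPoints_of_not_isClosed hdim.le hη.2) _ h2]
    exact hη
  obtain ⟨h1, h2⟩ := key W hW hx
  exact (mem_iff_notMem_compl hdim.le hp W h2).1 h1 (key _ (H17.GorCurve.isPure_compl hp W) hx').1

include k in
/-- A point on a subcurve and on the rest is a node. -/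
theorem isNode_of_mem_inter (hdim : topologicalKrullDim X = 1) (hX : Curv2.AtWorstNodal k X) {W : Closeds X}
    (hW : IsPure W) {x : X} (hx : x ∈ W) (hx' : x ∈ H17.GorCurve.compl W) : Curv2.IsNode k X x := by
  haveI := H28Int.isNoetherian k (X := X)
  have hxc : IsClosed ({x} : Set X) := by
    by_contra h
    exact (mem_iff_notMem_compl hdim.le (isPure_top hdim) W h).1 hx hx'
  rcases hX x hxc with ⟨V, hxV, hV⟩ | hn
  · exfalso
    haveI := hV
    haveI := H19Grp.isRegularLocalRing_stalk_of_smooth (V.ι ≫ (X ↘ Spec (CommRingCat.of k))) ⟨x, hxV⟩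
    haveI := H4Depth.isDomain_of_isRegularLocalRing ((V : Scheme.{u}).presheaf.stalk ⟨x, hxV⟩)
    haveI : IsDomain (X.presheaf.stalk x) :=
      (V.stalkIso ⟨x, hxV⟩).commRingCatIsoToRingEquiv.symm.toMulEquiv.isDomain _
    exact notMem_compl_of_isDomain (k := k) hdim hW hx hx'
  · exact hn

variable [IsAlgClosed k]

/-- In genus zero the dualizing module has degree `k_E - 2` on a component `E`. -/
theorem degW_omega_component (hdim : topologicalKrullDim X = 1) (hX : Curv2.AtWorstNodal k X)
    (hg : Subsingleton (Coh.HH X (Coh.structureModule X) 1)) {ω : X.Modules} (hω : IsDualizing k ω) {η : X}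
    (hη : ¬ IsClosed ({η} : Set X)) :
    degW k (⟨closure {η}, isClosed_closure⟩ : Closeds X) ω =
      ((closure ({η} : Set X) ∩ closure (closure ({η} : Set X))ᶜ).ncard : ℤ) - 2 := by
  haveI := H28Int.isNoetherian k (X := X)
  obtain ⟨hω₁, t, ht⟩ := hω
  let W : Closeds X := ⟨closure {η}, isClosed_closure⟩
  have hp : IsPure (⊤ : Closeds X) := isPure_top hdim
  have hW := H17.GorCurve.isPure_closure hη
  haveI : IsReduced (idl W).subscheme := H17.isReduced_vanishingIdeal_subscheme _
  haveI : ConnectedSpace (idl W).subscheme := by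
    have hr : Set.range (idl W).subschemeι = closure {η} := by
      rw [Scheme.IdealSheafData.range_subschemeι, Scheme.IdealSheafData.coe_support_vanishingIdeal]; rfl
    let e := (idl W).subschemeι.isClosedEmbedding.isEmbedding.toHomeomorph
    haveI : ConnectedSpace (closure ({η} : Set X)) :=
      isConnected_iff_connectedSpace.1 isIrreducible_singleton.closure.isConnected
    haveI : ConnectedSpace (Set.range (idl W).subschemeι) := hr.symm ▸ ‹ConnectedSpace (closure ({η} : Set X))›
    exact e.symm.surjective.connectedSpace e.symm.continuous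
  rw [H17.GorCurve.degW_omega_delta t ht hω₁ hdim.le hp hW, H29RR.euler_eq_sub (k := k) hdim.le,
    subcurve_genus_zero (k := k) hdim hg W, finrank_quotMod k (idl W) 0, H17.GorCurve.finrank_h0_subcurve,
    delta_eq_natCard k hdim.le hp hX hW, Nat.card_coe_set_eq]
  show _ = (((W : Set X) ∩ (H17.GorCurve.compl W : Set X)).ncard : ℤ) - 2
  push_cast
  ring

end Groth.Agent.H23Gor
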