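import Groth.Agent.H23Gor.VeryAmple
import Groth.Agent.H23Gor.NodalSubcurve
import Groth.Agent.H29CurveDual.VeryAmpleField
import Groth.Agent.H4RSH.DualBC
import Groth.Agent.S1589
import Groth.Agent.S1534
import Groth.Agent.H11Ample.Converse

/-!
# The tricanonical embedding of a curve with ample dualizing module
-/

set_option autoImplicit false
set_option linter.style.haveILetI false
set_option linter.unusedSectionVars false
set_option backward.isDefEq.respectTransparency false
set_option synthInstance.maxHeartbeats 400000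
set_option maxHeartbeats 1000000

universe u

open CategoryTheory CategoryTheory.Limits AlgebraicGeometry TopologicalSpace Opposite
open Groth.Agent.H29RR Groth.Agent.H29CurveDual Groth.Agent.H29CurveDual.Subcurve

namespace Groth.Agent.H23Gor

attribute [local instance 10000] H10Coh.hasSheafifyAb H10Coh.hasWeakSheafifyAb H10Coh.hasExtAb H10Coh.enoughInjAb
attribute [local irreducible] Curv2.euler

open Groth.Agent.H17.GorCurve (degW delta IsDualizing)

variable {k : Type u} [Field k] {X : Scheme.{u}} [X.Over (Spec (CommRingCat.of k))]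
  [IsProper (X ↘ Spec (CommRingCat.of k))] [IsReduced X] [ConnectedSpace X]

/-- The Euler characteristic of the quotient by the ideal of the whole space. -/
theorem euler_quot_top :
    Curv2.euler k X (ClSub.quotMod (idl (⊤ : Closeds X))) = Curv2.euler k X (Coh.structureModule X) := by
  haveI := H28Int.isNoetherian k (X := X)
  haveI := isIso_proj_top (X := X) (Coh.structureModule X)
  exact (H25Euler.euler_congr (k := k) (asIso (proj (Coh.structureModule X) (⊤ : Closeds X)) ≪≫
    H10Coh.Tw.rightUnitIso (ClSub.quotMod (idl (⊤ : Closeds X))))).symm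

/-- Three times an ample dualizing module exceeds `-2χ + 2` on every pure closed subset. -/
theorem tricanonical_bound (hdim : topologicalKrullDim X = 1) {ω : X.Modules} (hω : IsDualizing k ω)
    (hamp : CohB1.IsAmple ω) (hχ : Curv2.euler k X (Coh.structureModule X) < 0) (W : Closeds X) (hW : IsPure W)
    (hne : (W : Set X).Nonempty) :
    -2 * Curv2.euler k X (ClSub.quotMod (idl W)) + 2 < degW k W (CohB1.tensorPow ω 3) := by
  haveI := H28Int.isNoetherian k (X := X)
  obtain ⟨hω₁, t, ht⟩ := hω
  obtain ⟨η, hηW, hη⟩ := H17.GorCurve.exists_nonclosed hW hne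
  have h1 := H17.GorCurve.degW_pos_of_ample (k := k) hdim.le hamp hηW hη
  have h3 := H17.GorCurve.degW_omega_delta t ht hω₁ hdim.le (isPure_top hdim) hW
  have h4 : 0 ≤ delta k W := Int.natCast_nonneg _
  rw [H17.GorCurve.degW_tensorPow (k := k) hdim.le hω₁ W 3]
  rcases h4.eq_or_lt with h0 | hpos
  · have htop : W = ⊤ := by
      refine Closeds.ext (IsClopen.eq_univ ⟨W.isClosed, ?_⟩ hne)
      have hd : (W : Set X) ∩ (H17.GorCurve.compl W : Set X) = ∅ := by
        by_contra hc
        obtain ⟨x, hx, hx'⟩ := Set.nonempty_iff_ne_empty.2 hc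
        exact (H17.GorCurve.delta_pos (k := k) hdim.le (isPure_top hdim) hx hx').ne h0
      rw [← isClosed_compl_iff]
      refine isClosed_of_closure_subset fun x hx hxW => ?_
      exact Set.eq_empty_iff_forall_notMem.1 hd x ⟨hxW, hx⟩
    subst htop
    rw [euler_quot_top (k := k) (X := X)] at h3 ⊢
    omega
  · omega

/-- The stalks of the cokernel of an identity vanish. -/
theorem subsingleton_stalk_cokernel_id (L : X.Modules) (η : X) :
    Subsingleton ((cokernel (𝟙 L)).presheaf.stalk η) := by
  have hz : IsZero (cokernel (𝟙 L)) := IsZero.of_epi_eq_zero (cokernel.π (𝟙 L))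
    (by rw [← Category.id_comp (cokernel.π (𝟙 L))]; exact cokernel.condition (𝟙 L))
  exact AddCommGrpCat.subsingleton_of_isZero
    ((Scheme.Modules.toPresheaf X ⋙ TopCat.Presheaf.stalkFunctor _ η).map_isZero hz)

/-- For a proper connected geometrically reduced curve with invertible dualizing sheaf, a power of degree more
than `-2χ + 2` on all subcurves of the geometric curve is very ample over the ground field. -/
theorem exists_closedImmersion_tricanonical [GeometricallyReduced (X ↘ Spec (CommRingCat.of k))]
    (hdim : topologicalKrullDim X = 1) (h0 : Module.finrank k (Coh.HH X (Coh.structureModule X) 0) = 1)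
    (hg : 2 ≤ Curv2.genus k X) {ω : X.Modules} (hinv : PicF.IsInvertible ω)
    (hω : RelCanon.IsDualizingSheaf k X 1 ω) (hamp : CohB1.IsAmple ω) :
    ∃ (n : ℕ) (r : X ⟶ CohB1.ProjSpace n k), IsClosedImmersion r ∧
      r ≫ CohB1.ProjSpace.toSpec n k = X ↘ Spec (CommRingCat.of k) ∧
      Nonempty ((Scheme.Modules.pullback r).obj (Twist.twistProjSpace n k 1) ≅ CohB1.tensorPow ω 3) := by
  let p := X ↘ Spec (CommRingCat.of k)
  haveI := isNoetherian_of_proper (k := k) (X := X)
  let K := AlgebraicClosure k
  let g := Spec.map (CommRingCat.ofHom (algebraMap k K))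
  let X' := pullback p g
  let j : X' ⟶ X := pullback.fst p g
  letI : X'.Over (Spec (CommRingCat.of K)) := ⟨pullback.snd p g⟩
  let p' := X' ↘ Spec (CommRingCat.of K)
  have sq : IsPullback j p' p g := IsPullback.of_hasPullback p g
  haveI : IsProper p' := MorphismProperty.of_isPullback sq ‹IsProper _›
  haveI : AlgebraicGeometry.IsReduced X' := GeometricallyReduced.geometrically_isReduced (f := p) g _ _ sq
  haveI := isNoetherian_of_proper (k := K) (X := X')
  have hdim' : topologicalKrullDim X' = 1 := (H8Props.FieldDim.dim_baseChange (hc := sq)).trans hdim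
  have hO : Coh.IsCoh (Coh.structureModule X) := H10Coh.isCoh_structureModule' X
  obtain ⟨e⟩ := H11Ample.nonempty_pullback_structureModule_iso j
  have hO' : ∀ n, Module.finrank K (Coh.HH X' (Coh.structureModule X') n) =
      Module.finrank k (Coh.HH X (Coh.structureModule X) n) := fun n => by
    rw [← H29CurveDual.finrank_h0_congr (k := K) e n, H28Int.FieldExt.finrank_HH_bc K sq hO n]
  haveI : ConnectedSpace X' := (Groth.Agent.S1534.result K X' hdim' ((hO' 0).trans h0)).1
  have hamp' : CohB1.IsAmple ((Scheme.Modules.pullback j).obj ω) :=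
    haveI : IsAffineHom j := MorphismProperty.of_isPullback (P := @IsAffineHom) sq.flip inferInstance
    H11Ample.isAmple_pullback_of_isAffineHom j hamp
  have hω' : IsDualizing K ((Scheme.Modules.pullback j).obj ω) := by
    haveI : ω.IsQuasicoherent := hω.choose_spec.1
    obtain ⟨t, -, ht⟩ := H4RSH.DualBC.isDualizingSheaf_pullback sq (fun y =>
      (p.fiberι y).isEmbedding.isInducing.topologicalKrullDim_le.trans hdim.le) hω
    exact ⟨H11Ample.isInvertible_pullback j hinv, t,
      fun G hG ψ => Function.bijective_iff_existsUnique _ |>.1 (ht G hG) ψ⟩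
  have hg' : Curv2.euler K X' (Coh.structureModule X') < 0 := by
    rw [H29RR.euler_eq_sub (k := K) hdim'.le, hO' 0, hO' 1, h0]
    have : 2 ≤ Module.finrank k (Coh.HH X (Coh.structureModule X) 1) := hg
    omega
  let L := CohB1.tensorPow ω 3
  have hL : PicF.IsInvertible L := H11Ample.isInvertible_tensorPow hinv 3
  let L' := (Scheme.Modules.pullback j).obj L
  have hL' : PicF.IsInvertible L' := H11Ample.isInvertible_pullback j hL
  obtain ⟨eL⟩ := H11Ample.exists_iso_pullback_tensorPow j hinv 3
  have hL2 : ∀ W : Closeds X', IsPure W → (W : Set X').Nonempty →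
      -2 * Curv2.euler K X' (ClSub.quotMod (idl W)) + 2 < degW K W L' := fun W hW hne => by
    rw [H17.GorCurve.degW_congr (k := K) eL W]
    exact tricanonical_bound hdim' hω' hamp' hg' W hW hne
  obtain ⟨hgg, hgen, hspan⟩ := spans_of_degW hdim' hω' hL' hL2
  haveI : L.IsQuasicoherent := (H11Ample.isCoh_of_isInvertible hL).1
  haveI := H10Coh.finite_HH_proper k X L (H11Ample.isCoh_of_isInvertible hL) 0
  obtain ⟨n, hn⟩ : ∃ n, Module.finrank k (Coh.HH X L 0) = n + 1 := by
    refine Nat.exists_eq_succ_of_ne_zero fun hz => ?_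
    rw [← H28Int.FieldExt.finrank_HH_bc K sq (H11Ample.isCoh_of_isInvertible hL) 0] at hz
    haveI := H10Coh.finite_HH_proper K X' L' (H11Ample.isCoh_of_isInvertible hL') 0
    haveI : Subsingleton (Coh.HH X' L' 0) := (Module.finrank_zero_iff (R := K)).1 hz
    obtain ⟨x, -, hx⟩ := (isClosed_univ (X := X')).exists_closed_singleton Set.univ_nonempty
    obtain ⟨s, hs⟩ := hgen x hx
    have hs0 : s = 0 := (sec L').symm.injective (Subsingleton.elim _ _)
    refine (mem_gen_iff_notMem hL' s x).1 hs ?_
    rw [hs0, map_zero]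
    exact zero_mem _
  let β := Module.finBasisOfFinrankEq k (Coh.HH X L 0) hn
  let v : Fin (n + 1) → Γ(L, ⊤) := fun i => sec L (β i)
  have hcomb : ∀ s : Γ(L, ⊤), ∃ c : Fin (n + 1) → k, s = ∑ i, ProjUP.toGlobal p (c i) • v i := fun s =>
    ⟨fun i => β.repr ((sec L).symm s) i, by
      rw [← sec_comb (k := k) (L := L), β.sum_repr, AddEquiv.apply_symm_apply]⟩
  obtain ⟨r, hr, hrk, τ, hτ⟩ := exists_closedImmersion_of_spans hL' hgg hspan _
    (H29CurveDual.exists_comb_pullTop sq L v hcomb)
  haveI := hr
  have hva := H29CurveDual.vaData_of_closedImmersion p' hrk τ hτ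
  have hsurj : Function.Surjective j := by
    haveI : Surjective g := ⟨fun x => ⟨IsLocalRing.closedPoint _, Subsingleton.elim _ _⟩⟩
    haveI : Surjective j := MorphismProperty.of_isPullback (P := @Surjective) sq.flip inferInstance
    exact j.surjective
  exact ⟨n, H29CurveDual.exists_closedImmersion_of_vaData p hL (vaData_of_baseChange sq hL (fun x => by
    obtain ⟨z, rfl⟩ := hsurj x
    obtain ⟨l, hl⟩ := hva.cover z
    refine ⟨l, ?_⟩
    have h := H11Ample.gen_smul_pullSect j hL (v l) (c := 1) isUnit_one
    rw [one_smul] at h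
    exact h.le hl) hva)⟩

end Groth.Agent.H23Gor
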