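import Groth.Agent.H23Gor.DegAdd
import Groth.Agent.H23Gor.NodalDelta

/-!
# Degrees on subcurves as sums over components, and the degree forced by a section
-/

set_option autoImplicit false
set_option linter.style.haveILetI false
set_option linter.unusedSectionVars false
set_option backward.isDefEq.respectTransparency false
set_option synthInstance.maxHeartbeats 400000
set_option maxHeartbeats 1000000

universe u

open CategoryTheory CategoryTheory.Limits AlgebraicGeometry TopologicalSpace Opposite
open Groth.Agent.H29RR Groth.Agent.H06Mod Groth.Agent.H29CurveDual Groth.Agent.H29CurveDual.Subcurve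

namespace Groth.Agent.H23Gor

attribute [local instance 10000] H10Coh.hasSheafifyAb H10Coh.hasWeakSheafifyAb H10Coh.hasExtAb H10Coh.enoughInjAb
attribute [local irreducible] Curv2.euler

open Groth.Agent.H17.GorCurve (degW delta bijective_stalk_proj exists_fac_iff mem_iff_notMem_compl mem_compl_of_notMem)

variable {k : Type u} [Field k] {X : Scheme.{u}} [X.Over (Spec (CommRingCat.of k))]
  [IsProper (X ↘ Spec (CommRingCat.of k))] [IsReduced X]

include k in
/-- The quotient by the ideal of a closed set has length one at its nonclosed points. -/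
theorem len_quot (hdim : topologicalKrullDim X ≤ 1) {W : Closeds X} {η : X} (hη : ¬ IsClosed ({η} : Set X))
    (hW : η ∈ W) : H22Alg.DevLength.len (ClSub.quotMod (idl W)) η = 1 := by
  haveI := H28Int.isNoetherian k (X := X)
  haveI := H10Coh.epi_toSubscheme (idl W)
  have hb := bijective_stalk_of_epi hdim (H11Ample.isInvertible_structureModule (X := X))
    (ClSub.toSubscheme (idl W)) hη (not_subsingleton_iff_nontrivial.1 ((mem_support_quot (idl W)).ge (by
      rw [Scheme.IdealSheafData.coe_support_vanishingIdeal]; exact hW)))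
  let o := (Coh.structureModule X).presheaf.germ ⊤ η trivial (H11Ample.one ⊤)
  let σ : X.presheaf.stalk η ≃ₗ[X.presheaf.stalk η] (Coh.structureModule X).presheaf.stalk η :=
    LinearEquiv.ofBijective (LinearMap.toSpanSingleton _ _ o) (H11Ample.isGen_one ⊤ η trivial)
  letI := (isField_stalk hdim hη).toField
  have h1 : Module.length (X.presheaf.stalk η) (X.presheaf.stalk η) = 1 := Module.length_eq_one _ _
  exact ((σ.trans (LinearEquiv.ofBijective _ hb)).length_eq).symm.trans h1

include k in
/-- The nonclosed points have one-dimensional closures. -/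
theorem dim_closure_eq_one (hdim : topologicalKrullDim X ≤ 1) {η : X} (hη : ¬ IsClosed ({η} : Set X)) :
    topologicalKrullDim (closure ({η} : Set X)) = ((1 : ℕ) : WithBot ℕ∞) := by
  refine le_antisymm ((Topology.IsInducing.subtypeVal.topologicalKrullDim_le).trans (by exact_mod_cast hdim)) ?_
  obtain ⟨z, hz, hne⟩ : ∃ z, η ⤳ z ∧ z ≠ η := by
    by_contra hc
    push Not at hc
    exact hη (closure_subset_iff_isClosed.1 fun z hz => hc z (specializes_iff_mem_closure.2 hz))
  by_contra hlt
  have h0 : topologicalKrullDim (closure ({η} : Set X)) ≤ ((0 : ℕ) : WithBot ℕ∞) :=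
    Order.le_of_lt_succ (α := WithBot ℕ∞) (by
      rw [not_le] at hlt
      exact hlt.trans_le (le_of_eq (by rfl)))
  have hlt' := H22Alg.DevLength.dim_closure_lt hz hne h0
  haveI : Nonempty (IrreducibleCloseds (closure ({z} : Set X))) :=
    ⟨⟨closure {⟨z, subset_closure rfl⟩}, isIrreducible_singleton.closure, isClosed_closure⟩⟩
  exact hlt'.not_ge Order.krullDim_nonneg

/-- The degree on a closed set is the sum over its one-dimensional components. -/
theorem degW_eq_sum (hdim : topologicalKrullDim X ≤ 1) {L : X.Modules} (hL : PicF.IsInvertible L) (W : Closeds X)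
    (T : Finset X) (hT : ∀ η, η ∈ T ↔ η ∈ W ∧ ¬ IsClosed ({η} : Set X)) :
    degW k W L = ∑ η ∈ T, degW k (⟨closure {η}, isClosed_closure⟩ : Closeds X) L := by
  haveI := H28Int.isNoetherian k (X := X)
  let O := ClSub.quotMod (idl W)
  have hO : Coh.IsCoh O := LeadDev.isCoh_push_structure (idl W).subschemeι
  have hd : topologicalKrullDim (CohB1.support O) ≤ ((1 : ℕ) : WithBot ℕ∞) :=
    (Topology.IsInducing.subtypeVal.topologicalKrullDim_le).trans hdim
  have hl : ∀ A ∈ [L], PicF.IsInvertible A := by simpa using hL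
  have hsum := H22Alg.DevLength.eq_finsum (d := 1) (H28Int.isAddFn_D k [L] hl) (H28Int.D_eq_zero k [L] hl) hO hd
  rw [D_quotMod] at hsum
  rw [finsum_eq_sum_of_support_subset _ (s := T) fun ξ hξ => ?_] at hsum
  · rw [← neg_inj, hsum, ← Finset.sum_neg_distrib]
    refine Finset.sum_congr rfl fun η hη => ?_
    obtain ⟨hW, hn⟩ := (hT η).1 hη
    rw [if_pos (dim_closure_eq_one (k := k) hdim hn), len_quot (k := k) hdim hn hW]
    show ((1 : ℕ∞).toNat : ℤ) * H28Int.D k [L] (ClSub.quotMod (idl (⟨closure {η}, isClosed_closure⟩ : Closeds X))) = _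
    rw [D_quotMod]
    simp
  · rw [Function.mem_support] at hξ
    rw [Finset.mem_coe, hT]
    split at hξ
    · next h =>
      refine ⟨?_, fun hc => ?_⟩
      · by_contra hs
        refine hξ ?_
        rw [H22Alg.DevLength.len_eq_zero (fun h' => hs (by
          rwa [mem_support_quot, Scheme.IdealSheafData.coe_support_vanishingIdeal] at h'))]
        simp
      · have h0 : topologicalKrullDim ({ξ} : Set X) ≤ 0 := topologicalKrullDim_zero_of_discreteTopology _
        rw [hc.closure_eq] at h
        rw [h] at h0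
        exact absurd h0 (by simp)
    · exact absurd rfl hξ

/-- A section whose support is the pure closed set `W` forces degree at least `δ(W)` on it. -/
theorem delta_le_degW (hdim : topologicalKrullDim X ≤ 1) (hp : IsPure (⊤ : Closeds X)) {L : X.Modules}
    (hL : PicF.IsInvertible L) (s : Coh.structureModule X ⟶ L) {W : Closeds X} (hW : IsPure W)
    (hs : ∀ η : X, ¬ IsClosed ({η} : Set X) → (η ∈ W ↔ ((DerSch.stalkFunctor X η).map s).hom ≠ 0)) :
    delta k W ≤ degW k W L := by
  haveI := H28Int.isNoetherian k (X := X)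
  have hO := H11Ample.isInvertible_structureModule (X := X)
  let T := DerSch.stalkFunctor X
  have hT : ∀ {A B C : X.Modules} (f : A ⟶ B) (g : B ⟶ C) (η : X) (v : (T η).obj A),
      ((T η).map (f ≫ g)).hom v = ((T η).map g).hom (((T η).map f).hom v) := fun f g η v => by
    rw [Functor.map_comp, ModuleCat.hom_comp, LinearMap.comp_apply]
  let C := H17.GorCurve.compl W
  have hbij : ∀ η : X, ¬ IsClosed ({η} : Set X) → η ∈ W → Function.Bijective ((T η).map s).hom := by
    intro η hη hηW
    obtain ⟨v, hv⟩ : ∃ v, ((T η).map s).hom v ≠ 0 := by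
      by_contra hc
      push Not at hc
      exact (hs η hη).1 hηW (LinearMap.ext hc)
    have hv0 : v ≠ 0 := fun h0 => hv (by rw [h0, map_zero])
    refine ⟨(injective_iff_map_eq_zero _).2 fun y hy => ?_, fun b => ?_⟩
    · obtain ⟨c, hc⟩ : ∃ c : X.presheaf.stalk η, c • v = y := exists_smul_eq hdim hO hη hv0 y
      by_cases h0 : c = 0
      · rw [← hc, h0, zero_smul]
      · obtain ⟨d, hd⟩ := (isField_stalk hdim hη).mul_inv_cancel h0
        refine absurd ?_ hv
        rw [← one_smul (X.presheaf.stalk η) v, ← hd, mul_comm, mul_smul, hc, map_smul, hy, smul_zero]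
    · obtain ⟨c, hc⟩ : ∃ c : X.presheaf.stalk η, c • (((T η).map s).hom v) = b := exists_smul_eq hdim hL hη hv b
      exact ⟨c • v, by rw [map_smul, hc]⟩
  have hsC : s ≫ proj L C = 0 := by
    refine hom_res_eq_zero hL (H17.GorCurve.isPure_compl hp W) _ fun η hη hn => ?_
    have hns : ((T η).map s).hom = 0 := by
      by_contra h
      exact (mem_iff_notMem_compl hdim hp W hn).1 ((hs η hn).2 h) hη
    rw [Functor.map_comp, ModuleCat.hom_comp, hns, LinearMap.comp_zero]
  obtain ⟨ψ, hψ⟩ := (exists_fac_iff hdim hp hO hL W s).2 hsC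
  haveI := epi_proj hO W
  haveI := epi_proj hL C
  have hψb : ∀ η : X, ¬ IsClosed ({η} : Set X) → η ∈ W → Function.Bijective ((T η).map ψ).hom := fun η hη hηW => by
    refine (Function.Bijective.of_comp_iff _ (bijective_stalk_proj hdim hO hη hηW)).1 ?_
    convert hbij η hη hηW using 1
    funext v
    rw [Function.comp_apply, ← hT, hψ]
  haveI : Mono ψ := by
    refine Preadditive.mono_of_kernel_zero (hom_res_eq_zero hO hW _ fun η hη hn => LinearMap.ext fun v => ?_)
    rw [LinearMap.zero_apply]
    refine (hψb η hn hη).1 ?_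
    rw [map_zero, ← hT, kernel.condition, Functor.map_zero]
    rfl
  have hψC : ψ ≫ proj L C = 0 := by
    rw [← cancel_epi (proj (Coh.structureModule X) W), ← Category.assoc, hψ, hsC, comp_zero]
  let g := cokernel.desc ψ (proj L C) hψC
  haveI : Epi g := epi_of_epi_fac (cokernel.π_desc ψ (proj L C) hψC)
  have hA : Coh.IsCoh (res (Coh.structureModule X) W) := isCoh_res hO W
  have hLc := H11Ample.isCoh_of_isInvertible hL
  have hQ : Coh.IsCoh (cokernel ψ) := H10Coh.isCoh_cokernel ψ hA.1 hLc
  have hR : Coh.IsCoh (res L C) := isCoh_res hL C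
  have hK : Coh.IsCoh (kernel g) := H10Coh.isCoh_kernel g hQ hR.1
  have e1 : Curv2.euler k X L = Curv2.euler k X (res (Coh.structureModule X) W) + Curv2.euler k X (cokernel ψ) := by
    have hS : (ShortComplex.mk ψ (cokernel.π ψ) (cokernel.condition ψ)).ShortExact :=
      { exact := ShortComplex.exact_cokernel _ }
    exact H25Euler.euler_add (k := k) hS hA hLc hQ
  have e2 : Curv2.euler k X (cokernel ψ) = Curv2.euler k X (kernel g) + Curv2.euler k X (res L C) :=
    H25Euler.euler_add (k := k) (H10Coh.shortExact_kernel g) hK hQ hR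
  have hKz : ∀ η : X, ¬ IsClosed ({η} : Set X) → Subsingleton ((kernel g).presheaf.stalk η) := fun η hη => by
    have hinj : Function.Injective ((T η).map g).hom := by
      refine (injective_iff_map_eq_zero _).2 fun q hq => ?_
      obtain ⟨l, rfl⟩ := (ModuleCat.epi_iff_surjective _).1 (inferInstance : Epi ((T η).map (cokernel.π ψ))) q
      rw [← hT, cokernel.π_desc] at hq
      by_cases hηC : η ∈ C
      · rw [(bijective_stalk_proj hdim hL hη hηC).1 (hq.trans (map_zero _).symm), map_zero]
      · obtain ⟨a, rfl⟩ := (hψb η hη ((mem_iff_notMem_compl hdim hp W hη).2 hηC)).2 l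
        rw [← hT, cokernel.condition, Functor.map_zero]
        rfl
    have hKi := (ModuleCat.mono_iff_injective ((T η).map (kernel.ι g))).1 inferInstance
    refine ⟨fun a b => hKi (hinj ?_)⟩
    rw [← hT, ← hT, kernel.condition, Functor.map_zero]
    rfl
  obtain ⟨-, -, h1⟩ := subsingleton_HH_one hK hKz
  have e3 := H29RR.euler_eq_sub (k := k) hdim (kernel g)
  haveI := h1
  rw [Module.finrank_zero_of_subsingleton (R := k) (M := Coh.HH X (kernel g) 1)] at e3
  have e4 := H17.GorCurve.euler_res_compl (k := k) hdim hp hL W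
  have e5 := H25Euler.euler_congr (k := k) (H10Coh.Tw.rightUnitIso (ClSub.quotMod (idl W)))
  simp only [degW, res, C] at *
  omega

include k in
/-- The closed set swept out by the nonclosed points where a morphism is nonzero. -/
theorem exists_sectionSupport {F L : X.Modules} (hp : IsPure (⊤ : Closeds X)) (hdim : topologicalKrullDim X ≤ 1)
    (hL : PicF.IsInvertible L) (s : F ⟶ L) (hs : s ≠ 0) :
    ∃ W : Closeds X, IsPure W ∧ (W : Set X).Nonempty ∧
      ∀ η : X, ¬ IsClosed ({η} : Set X) → (η ∈ W ↔ ((DerSch.stalkFunctor X η).map s).hom ≠ 0) := by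
  haveI := H28Int.isNoetherian k (X := X)
  let S : Set X := {η | ¬ IsClosed ({η} : Set X) ∧ ((DerSch.stalkFunctor X η).map s).hom ≠ 0}
  refine ⟨⟨closure S, isClosed_closure⟩, closure_mono fun η hη => ⟨subset_closure hη, hη.1⟩, ?_,
    fun η hη => ⟨fun hm => ?_, fun h => subset_closure ⟨hη, h⟩⟩⟩
  · by_contra he
    refine hs (H17.GorCurve.hom_eq_zero_of_nonclosed hp hL s fun η hη => ?_)
    by_contra h
    exact he ⟨η, subset_closure ⟨hη, h⟩⟩
  · exact (mem_of_mem_closure_nonclosed hdim (fun z (hz : z ∈ S) => hz.1) hη hm).2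

end Groth.Agent.H23Gor
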