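import Groth.Agent.H23Gor.SubVanish
import Groth.Agent.H29CurveDual.Embedding
import Groth.Agent.H17.GorCurve.Balanced

/-!
# Very ampleness on reduced Gorenstein curves
-/

set_option autoImplicit false
set_option linter.style.haveILetI false
set_option linter.unusedSectionVars false
set_option backward.isDefEq.respectTransparency false
set_option synthInstance.maxHeartbeats 400000
set_option maxHeartbeats 1000000

universe u

open CategoryTheory CategoryTheory.Limits AlgebraicGeometry TopologicalSpace Opposite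
open Groth.Agent.H29RR Groth.Agent.H29CurveDual

namespace Groth.Agent.H23Gor

attribute [local instance 10000] H10Coh.hasSheafifyAb H10Coh.hasWeakSheafifyAb H10Coh.hasExtAb H10Coh.enoughInjAb
attribute [local instance] Curv2.resAlgebra

variable {k : Type u} [Field k] [IsAlgClosed k] {X : Scheme.{u}} [X.Over (Spec (CommRingCat.of k))]
  [IsProper (X ↘ Spec (CommRingCat.of k))] [IsReduced X]

/-- Spanned sections that separate points and tangent vectors give a closed immersion. -/
theorem exists_closedImmersion_of_spans {L : X.Modules} (hL : PicF.IsInvertible L)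
    (hgg : Curv2.IsGloballyGenerated L)
    (hspan : ∀ P Q : X, IsClosed ({P} : Set X) → IsClosed ({Q} : Set X) →
      SpansAt (CohB1.tensorMod (ClSub.idealMod (ptIdeal P)) L) Q)
    {n : ℕ} (v : Fin (n + 1) → Γ(L, ⊤))
    (hcomb : ∀ g : Γ(L, ⊤), ∃ c : Fin (n + 1) → k,
      g = ∑ i, ProjUP.toGlobal (X ↘ Spec (CommRingCat.of k)) (c i) • v i) :
    ∃ (r : X ⟶ CohB1.ProjSpace n k), IsClosedImmersion r ∧
      r ≫ CohB1.ProjSpace.toSpec n k = X ↘ Spec (CommRingCat.of k) ∧
      ∃ τ : (Scheme.Modules.pullback r).obj (Twist.twistProjSpace n k 1) ≅ L,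
        ∀ i, τ.hom.app ⊤ (ProjUP.pullSec r (Twist.twistProjSpace n k 1) (ProjUP.coord n k i)) = v i := by
  let p := X ↘ Spec (CommRingCat.of k)
  haveI := isNoetherian_of_proper (k := k) (X := X)
  have hgen : ProjUP.GeneratedBy L v := fun x => by
    rw [eq_top_iff, ← spansAt_of_globallyGenerated hgg x, Submodule.span_le]
    rintro _ ⟨g, rfl⟩
    obtain ⟨c, rfl⟩ := hcomb g
    show L.presheaf.germ ⊤ x trivial (∑ i, ProjUP.toGlobal p (c i) • v i) ∈ _
    rw [map_sum]
    refine Submodule.sum_mem _ fun i _ => ?_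
    rw [H17.AssPts.germ_smul']
    exact Submodule.smul_mem _ _ (Submodule.subset_span ⟨i, rfl⟩)
  obtain ⟨r, hr, τ, hτ⟩ := S3572.result n p L hL v hgen
  let pb := (Scheme.Modules.pullback r).obj (Twist.twistProjSpace n k 1)
  let comb : (Fin (n + 1) → k) → Γ(pb, ⊤) := fun c =>
    ∑ i, ProjUP.toGlobal p (c i) • ProjUP.pullSec r (Twist.twistProjSpace n k 1) (ProjUP.coord n k i)
  have hτc : ∀ c, τ.hom.app ⊤ (comb c) = ∑ i, ProjUP.toGlobal p (c i) • v i := fun c => by
    rw [map_sum]
    exact Finset.sum_congr rfl fun i _ => (Scheme.Modules.Hom.app_smul _ _ _).trans (congrArg _ (hτ i))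
  have hbij : ∀ x, Function.Bijective (H06Mod.stalkLin τ.hom x) := fun x =>
    (ConcreteCategory.isIso_iff_bijective ((DerSch.stalkFunctor X x).map τ.hom)).1 inferInstance
  refine ⟨r, (S14411.result k X p n r hr).2 ⟨?_, ?_⟩, hr, τ, hτ⟩
  · intro P Q hP hQ hne
    obtain ⟨hoff, hrng, -⟩ := ptIncl_stalks_of_coh (k := k) hP (finrank_residue_eq_one (k := k) hP) hL
    let G := CohB1.tensorMod (ClSub.idealMod (ptIdeal P)) L
    let m := IsLocalRing.maximalIdeal (X.presheaf.stalk Q)
    obtain ⟨g, hg⟩ : ∃ g : Γ(G, ⊤), L.presheaf.germ ⊤ Q trivial ((ptIncl P L).app ⊤ g) ∉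
        m • (⊤ : Submodule (X.presheaf.stalk Q) (L.presheaf.stalk Q)) := by
      by_contra hall
      push Not at hall
      have h1 : (⊤ : Submodule (X.presheaf.stalk Q) (L.presheaf.stalk Q)) ≤ m • ⊤ := by
        refine (LinearMap.range_eq_top.2 (hoff Q (Ne.symm hne)).2).ge.trans ?_
        rw [LinearMap.range_eq_map]
        refine le_trans (Submodule.map_mono (hspan P Q hP hQ).ge) ?_
        rw [Submodule.map_span, Submodule.span_le]
        rintro _ ⟨_, ⟨g, rfl⟩, rfl⟩
        rw [SetLike.mem_coe, germ_app]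
        exact hall g
      obtain ⟨-, hfin, hr1⟩ := H25Par.finrank_stalk (rank_one_of_isInvertible hL) Q
      change Module.finrank (X.presheaf.stalk Q) (L.presheaf.stalk Q) = 1 at hr1
      haveI : Module.Finite (X.presheaf.stalk Q) (L.presheaf.stalk Q) := hfin
      have h2 := Submodule.eq_bot_of_le_smul_of_le_jacobson_bot m ⊤ Module.Finite.fg_top h1
        (IsLocalRing.maximalIdeal_le_jacobson _)
      haveI : Subsingleton (L.presheaf.stalk Q) :=
        (Submodule.subsingleton_iff (X.presheaf.stalk Q)).1 (subsingleton_of_bot_eq_top h2.symm)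
      rw [Module.finrank_zero_of_subsingleton] at hr1
      exact zero_ne_one hr1
    obtain ⟨c, hc⟩ := hcomb ((ptIncl P L).app ⊤ g)
    refine ⟨c, Or.inl ⟨?_, fun hq => hg ?_⟩⟩
    · rw [← mem_smul_top_iff _ _ (hbij P), germ_app, hτc, ← hc, ← hrng]
      exact ⟨_, germ_app _ _ _⟩
    · rw [← mem_smul_top_iff _ _ (hbij Q), germ_app, hτc, ← hc] at hq
      exact hq
  · intro P hP
    obtain ⟨-, hrng, -⟩ := ptIncl_stalks_of_coh (k := k) hP (finrank_residue_eq_one (k := k) hP) hL
    refine le_trans (fun z hz => ?_) le_sup_left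
    have h1 : H06Mod.stalkLin τ.hom P z ∈ LinearMap.range (H06Mod.stalkLin (ptIncl P L) P) := by
      rw [hrng]
      exact (mem_smul_top_iff _ _ (hbij P) _).2 hz
    rw [LinearMap.range_eq_map, ← hspan P P hP hP, Submodule.map_span] at h1
    suffices h2 : H06Mod.stalkLin τ.hom P z ∈ Submodule.map (H06Mod.stalkLin τ.hom P) (Submodule.span _ _) by
      obtain ⟨z', hz', e⟩ := Submodule.mem_map.1 h2
      exact (hbij P).1 e ▸ hz'
    rw [Submodule.map_span]
    refine Submodule.span_mono ?_ h1
    rintro _ ⟨_, ⟨g, rfl⟩, rfl⟩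
    obtain ⟨c, hc⟩ := hcomb ((ptIncl P L).app ⊤ g)
    refine ⟨pb.presheaf.germ ⊤ P trivial (comb c), ⟨c, rfl, ?_⟩, ?_⟩
    · rw [← mem_smul_top_iff _ _ (hbij P), germ_app, hτc, ← hc, ← hrng]
      exact ⟨_, germ_app _ _ _⟩
    · rw [germ_app, hτc, ← hc, ← germ_app]

open Groth.Agent.H29CurveDual.Subcurve in
/-- Degree more than `-2χ + 2` on all pure closed subsets: sections span `L` and its twists by points. -/
theorem spans_of_degW [ConnectedSpace X] (hdim : topologicalKrullDim X = 1) {ω : X.Modules}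
    (hω : H17.GorCurve.IsDualizing k ω) {L : X.Modules} (hL : PicF.IsInvertible L)
    (hL2 : ∀ W : Closeds X, IsPure W → (W : Set X).Nonempty →
      -2 * Curv2.euler k X (ClSub.quotMod (idl W)) + 2 < H17.GorCurve.degW k W L) :
    Curv2.IsGloballyGenerated L ∧ (∀ x : X, IsClosed ({x} : Set X) → ∃ g : Γ(L, ⊤), x ∈ H11Ample.gen L g) ∧
      ∀ P Q : X, IsClosed ({P} : Set X) → IsClosed ({Q} : Set X) →
        SpansAt (CohB1.tensorMod (ClSub.idealMod (ptIdeal P)) L) Q := by
  haveI := isNoetherian_of_proper (k := k) (X := X)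
  have hp : IsPure (⊤ : Closeds X) := isPure_top hdim
  have hLc := H11Ample.isCoh_of_isInvertible hL
  have hpt : ∀ P : X, IsClosed ({P} : Set X) → ((ptIdeal P).support : Set X) = {P} := fun P hP => by
    rw [← Scheme.IdealSheafData.range_subschemeι, range_subscheme_pt hP]
  have hspan1 : ∀ x : X, IsClosed ({x} : Set X) → SpansAt L x := fun x hx =>
    spansAt_sub (k := k) hdim.le hp hω hL hL2 hLc (𝟙 L) (fun η _ => by
      refine not_not.1 fun hs => ?_
      have hz : IsZero (cokernel (𝟙 L)) := IsZero.of_epi_eq_zero (cokernel.π (𝟙 L))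
        (by rw [← Category.id_comp (cokernel.π (𝟙 L))]; exact cokernel.condition (𝟙 L))
      exact hs (AddCommGrpCat.subsingleton_of_isZero
        ((Scheme.Modules.toPresheaf X ⋙ TopCat.Presheaf.stalkFunctor _ η).map_isZero hz))) (by omega) hx
  have hgen : ∀ x : X, IsClosed ({x} : Set X) → ∃ g : Γ(L, ⊤), x ∈ H11Ample.gen L g := fun x hx => by
    by_contra hall
    push Not at hall
    let m := IsLocalRing.maximalIdeal (X.presheaf.stalk x)
    have h1 : (⊤ : Submodule (X.presheaf.stalk x) (L.presheaf.stalk x)) ≤ m • ⊤ := by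
      rw [← hspan1 x hx, Submodule.span_le]
      rintro _ ⟨g, rfl⟩
      rw [hspan1 x hx]
      exact not_not.1 fun h' => hall g ((mem_gen_iff_notMem hL g x).2 h')
    obtain ⟨-, hfin, hr1⟩ := H25Par.finrank_stalk (rank_one_of_isInvertible hL) x
    change Module.finrank (X.presheaf.stalk x) (L.presheaf.stalk x) = 1 at hr1
    haveI : Module.Finite (X.presheaf.stalk x) (L.presheaf.stalk x) := hfin
    have h2 := Submodule.eq_bot_of_le_smul_of_le_jacobson_bot m ⊤ Module.Finite.fg_top h1
      (IsLocalRing.maximalIdeal_le_jacobson _)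
    haveI : Subsingleton (L.presheaf.stalk x) :=
      (Submodule.subsingleton_iff (X.presheaf.stalk x)).1 (subsingleton_of_bot_eq_top h2.symm)
    rw [Module.finrank_zero_of_subsingleton] at hr1
    exact zero_ne_one hr1
  have hgg : Curv2.IsGloballyGenerated L := isGloballyGenerated_of_closedPoints hL hgen
  have hspan : ∀ P Q : X, IsClosed ({P} : Set X) → IsClosed ({Q} : Set X) →
      SpansAt (CohB1.tensorMod (ClSub.idealMod (ptIdeal P)) L) Q := fun P Q hP hQ => by
    obtain ⟨hc, -, he⟩ := exists_idealTensor_data (k := k) hL (ptIdeal P)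
      (by rw [hpt P hP]; exact topologicalKrullDim_zero_of_discreteTopology _)
    haveI := H10Coh.epi_toSubscheme (ptIdeal P)
    have hflat : FlatMod.IsFlat L :=
      H16Derived.KFlat.Stalk.isFlat_of_isFinLocFree (H28Pinch.isFinLocFree_of_isInvertible hL)
    have hm : Mono (((DCoh.tensorBi (X := X)).flip.obj L).map (ClSub.idealModι (ptIdeal P))) :=
      (H16Derived.KFlat.Stalk.isFlatObj_of_isFlat hflat _
        (H10Coh.shortExact_kernel (ClSub.toSubscheme (ptIdeal P)))).mono_f
    haveI : Mono (ptIncl P L) := mono_comp' hm inferInstance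
    obtain ⟨hoff, -, -⟩ := ptIncl_stalks_of_coh (k := k) hP (finrank_residue_eq_one (k := k) hP) hL
    refine spansAt_sub (k := k) hdim.le hp hω hL hL2 hc (ptIncl P L) (fun η hη => ?_) ?_ hQ
    · haveI : Subsingleton ((DerSch.stalkFunctor X η).obj (cokernel (ptIncl P L))) :=
        subsingleton_of_forall_eq 0 fun c => by
          obtain ⟨l, rfl⟩ := (ModuleCat.epi_iff_surjective _).1
            (inferInstance : Epi ((DerSch.stalkFunctor X η).map (cokernel.π (ptIncl P L)))) c
          obtain ⟨a, rfl⟩ := (hoff η fun e => hη (e ▸ hP)).2 l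
          show ((DerSch.stalkFunctor X η).map (cokernel.π (ptIncl P L))).hom
            (((DerSch.stalkFunctor X η).map (ptIncl P L)).hom a) = 0
          rw [← LinearMap.comp_apply, ← ModuleCat.hom_comp, ← Functor.map_comp, cokernel.condition,
            Functor.map_zero]
          rfl
      exact this
    · rw [finrank_h0_quotMod_pt (k := k) hP, finrank_residue_eq_one (k := k) hP] at he
      omega
  exact ⟨hgg, hgen, hspan⟩

open Groth.Agent.H29CurveDual.Subcurve in
/-- Degree more than `-2χ + 2` on all pure closed subsets gives a closed immersion. -/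
theorem exists_closedImmersion_of_degW [ConnectedSpace X] (hdim : topologicalKrullDim X = 1) {ω : X.Modules}
    (hω : H17.GorCurve.IsDualizing k ω) {L : X.Modules} (hL : PicF.IsInvertible L)
    (hL2 : ∀ W : Closeds X, IsPure W → (W : Set X).Nonempty →
      -2 * Curv2.euler k X (ClSub.quotMod (idl W)) + 2 < H17.GorCurve.degW k W L) :
    ∃ (n : ℕ) (r : X ⟶ CohB1.ProjSpace n k), IsClosedImmersion r ∧
      r ≫ CohB1.ProjSpace.toSpec n k = X ↘ Spec (CommRingCat.of k) ∧
      Nonempty ((Scheme.Modules.pullback r).obj (Twist.twistProjSpace n k 1) ≅ L) := by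
  haveI := isNoetherian_of_proper (k := k) (X := X)
  have hLc := H11Ample.isCoh_of_isInvertible hL
  obtain ⟨hgg, hgen, hspan⟩ := spans_of_degW hdim hω hL hL2
  obtain ⟨n, hn⟩ : ∃ n, Module.finrank k (Coh.HH X L 0) = n + 1 := by
    refine Nat.exists_eq_succ_of_ne_zero fun h0 => ?_
    haveI := H10Coh.finite_HH_proper k X L hLc 0
    haveI : Subsingleton (Coh.HH X L 0) := (Module.finrank_zero_iff (R := k)).1 h0
    obtain ⟨x, -, hx⟩ := (isClosed_univ (X := X)).exists_closed_singleton Set.univ_nonempty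
    obtain ⟨g, hg⟩ := hgen x hx
    have hg0 : g = 0 := (sec L).symm.injective (Subsingleton.elim _ _)
    refine (mem_gen_iff_notMem hL g x).1 hg ?_
    rw [hg0, map_zero]
    exact zero_mem _
  haveI := H10Coh.finite_HH_proper k X L hLc 0
  let β := Module.finBasisOfFinrankEq k (Coh.HH X L 0) hn
  obtain ⟨r, hr, hrk, τ, -⟩ := exists_closedImmersion_of_spans hL hgg hspan (fun i => sec L (β i)) fun g =>
    ⟨fun i => β.repr ((sec L).symm g) i, by
      rw [← sec_comb (k := k) (L := L), β.sum_repr, AddEquiv.apply_symm_apply]⟩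
  exact ⟨n, r, hr, hrk, ⟨τ⟩⟩

open Groth.Agent.H29CurveDual.Subcurve in
/-- Powers of exponent at least four of an ample `ω(D)` are very ample. -/
theorem exists_closedImmersion_pow [ConnectedSpace X] (hdim : topologicalKrullDim X = 1) {ω : X.Modules}
    (hω : H17.GorCurve.IsDualizing k ω) {D : Set X} (hDcl : IsClosed D) (hDfin : D.Finite) {N : X.Modules}
    (hN : ClSub.IsInverseOf N (ClSub.idealMod (idl (⟨D, hDcl⟩ : Closeds X))))
    (hamp : CohB1.IsAmple (CohB1.tensorMod ω N)) {m : ℕ} (hm : 4 ≤ m) :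
    ∃ (n : ℕ) (r : X ⟶ CohB1.ProjSpace n k), IsClosedImmersion r ∧
      r ≫ CohB1.ProjSpace.toSpec n k = X ↘ Spec (CommRingCat.of k) ∧
      Nonempty ((Scheme.Modules.pullback r).obj (Twist.twistProjSpace n k 1) ≅
        CohB1.tensorPow (CohB1.tensorMod ω N) m) := by
  haveI := isNoetherian_of_proper (k := k) (X := X)
  obtain ⟨e⟩ := hN
  have hNi : PicF.IsInvertible N := H17.InvertibleTensor.isInvertible_of_tensor_iso _ _ e
  have hMi := H11Ample.isInvertible_of_isAmple hamp
  have hp : IsPure (⊤ : Closeds X) := isPure_top hdim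
  refine exists_closedImmersion_of_degW hdim hω (H11Ample.isInvertible_tensorPow hMi m) fun W hW hne => ?_
  obtain ⟨hω₁, t, ht⟩ := hω
  obtain ⟨η, hηW, hη⟩ := H17.GorCurve.exists_nonclosed hW hne
  have h1 := H17.GorCurve.degW_pos_of_ample (k := k) hdim.le hamp hηW hη
  have h2 := H17.GorCurve.degW_tensor (k := k) hdim.le hω₁ hNi W
  have h3 := H17.GorCurve.degW_omega_delta t ht hω₁ hdim.le hp hW
  have h4 : 0 ≤ H17.GorCurve.delta k W := Int.natCast_nonneg _
  have h5 : 0 ≤ H17.GorCurve.degW k W N := by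
    refine degW_nonneg hdim.le hNi fun z _ hz => ?_
    rw [degW_inverse (k := k) hdim.le _ (fun y hy hm' => ?_) hNi e (H17.GorCurve.isPure_closure hz)]
    · exact Int.natCast_nonneg _
    · rw [← SetLike.mem_coe, Scheme.IdealSheafData.coe_support_vanishingIdeal] at hm'
      have hfd : (closure ({y} : Set X)).Finite :=
        hDfin.subset (closure_minimal (Set.singleton_subset_iff.2 hm') hDcl)
      haveI : JacobsonSpace X := LocallyOfFiniteType.jacobsonSpace (X ↘ Spec (CommRingCat.of k))
      have h' : IsClosed (closure ({y} : Set X) ∩ closedPoints X) := by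
        rw [← Set.biUnion_of_singleton (closure ({y} : Set X) ∩ closedPoints X)]
        exact (hfd.inter_of_left _).isClosed_biUnion fun z hz' => mem_closedPoints_iff.1 hz'.2
      have h'' := (JacobsonSpace.closure_inter_closedPoints (isClosed_closure (s := ({y} : Set X)))).ge
        (subset_closure rfl)
      rw [h'.closure_eq] at h''
      exact hy (mem_closedPoints_iff.1 h''.2)
  rw [H17.GorCurve.degW_tensorPow (k := k) hdim.le hMi W m]
  have h6 : 4 * H17.GorCurve.degW k W (CohB1.tensorMod ω N) ≤ (m : ℤ) * H17.GorCurve.degW k W (CohB1.tensorMod ω N) :=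
    mul_le_mul_of_nonneg_right (by exact_mod_cast hm) h1.le
  omega

end Groth.Agent.H23Gor
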